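import Cfsg.Agent.Lib.ChevAut.RGDAut
import Cfsg.Agent.Lib.ChevBN.Parabolic
import Cfsg.Agent.Lib.ChevBN.Weyl
import Cfsg.Agent.Lib.ChevOrder.CardU
import Cfsg.Agent.Lib.ChevOrder.Assembly

/-!
# Automorphisms of finite Chevalley groups: the fundamental root subgroups

* `exists_long_simple` : the longest element permutes the fundamental roots up to sign;
* `exists_sylow` : `U` is a Sylow subgroup for the characteristic;
* `exists_normalised` : after an inner automorphism the fundamental root subgroups are permuted.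
-/

set_option autoImplicit false

namespace Cfsg.Agent.ChevAut

open Cfsg.Lie Cfsg.Lie.ChevalleyDatum Cfsg.Agent.Chev Cfsg.Agent.ChevBN Cfsg.Agent.ChevSt

variable {D : ChevalleyDatum} {M : List (List ℤ)} {d : ℤ} (hD : Good D) (hR : Roots D M d)
  {F : Type*} [Field F]

include hD hR

/-- Height of a positive root is at least `d`, with equality only at the fundamental roots. -/
theorem d_le_ht {q : ℕ} (hq : q < D.nroots) (hp : D.IsPosRoot q) :
    d ≤ ht D M q ∧ (ht D M q = d → ∃ i < D.rank, q = D.simple i) := by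
  induction hn : (ht D M q).toNat using Nat.strong_induction_on generalizing q with
  | _ m ih =>
    by_cases hs : ∃ i < D.rank, q = D.simple i
    · refine ⟨?_, fun _ => hs⟩
      obtain ⟨i, hi, rfl⟩ := hs
      refine le_of_eq ?_
      show d = ((List.range D.rank).map fun k => co D M k (D.simple i)).sum
      rw [← List.sum_toFinset _ List.nodup_range, List.toFinset_range,
        Finset.sum_eq_single i (fun k hk hne => by
          rw [hR.dual k (Finset.mem_range.1 hk) i hi, if_neg hne])
          (fun h => absurd (Finset.mem_range.2 hi) h), hR.dual i hi i hi, if_pos rfl]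
    push Not at hs
    obtain ⟨i, hi, hwp, hlt⟩ := hR.exists_descend hD hq hp hs
    have hwlt : wN D i q < D.nroots := refl_lt hD (hD.simple_lt i hi) hq
    have h0 := hR.ht_pos _ hwlt hwp
    obtain ⟨h1, -⟩ := ih _ (by omega) hwlt hwp rfl
    exact ⟨by omega, fun e => by omega⟩

theorem lin_nonneg {g : ℕ → ℤ} (hg : IsLin D g) (h : ∀ i < D.rank, 0 ≤ g (D.simple i)) {q : ℕ}
    (hq : q < D.nroots) (hp : D.IsPosRoot q) : 0 ≤ g q := by
  by_contra hneg
  have hN : 0 < ht D M q + 1 := by have := hR.ht_pos q hq hp; omega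
  have h1 := lin_pos hD hR (g := fun r => (ht D M q + 1) * g r + ht D M r)
    ((hg.smul _).addFun (isLin_ht hD M))
    (fun i hi => by
      have := mul_nonneg hN.le (h i hi)
      have := hR.ht_pos _ (hD.simple_lt i hi) (hR.pos_simple hD hi)
      omega) hq hp
  have : g q ≤ -1 := by omega
  nlinarith [hR.ht_pos q hq hp]

variable (F) in
/-- The longest element maps each fundamental root to the negative of one. -/
theorem exists_long_simple {l : List (Fin D.rank)}
    (hl : ∀ r, (chevRGD hD hR F).pos r → ¬ (chevRGD hD hR F).pos ((chevRGD hD hR F).ww l r)) :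
    ∃ ι : Fin D.rank → Fin D.rank, Function.Surjective ι ∧ ∀ i,
      (chevRGD hD hR F).ww l ((chevRGD hD hR F).simple i) =
        (chevRGD hD hR F).neg ((chevRGD hD hR F).simple (ι i)) := by
  classical
  set R := chevRGD hD hR F with hRdef
  obtain ⟨g, hg, e⟩ := lin_comp hD hR F l (isLin_ht hD M)
  let σ : Fin D.nroots → Fin D.nroots := fun r => R.neg (R.ww l r)
  have hσp : ∀ r, R.pos r → R.pos (σ r) := fun r hr => (R.pos_neg _).2 (hl r hr)
  have hσinj : Function.Injective σ := fun a b hab => by
    have h1 : R.ww l a = R.ww l b := by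
      have := congrArg R.neg hab
      rwa [R.neg_neg, R.neg_neg] at this
    rw [← R.ww_reverse_ww l a, h1, R.ww_reverse_ww]
  have hh : ∀ r : Fin D.nroots, ht D M (σ r).val = -g r.val := fun r => by
    rw [e r]
    exact (isLin_ht hD M).neg _ (R.ww l r).isLt
  have hge : ∀ r : Fin D.nroots, R.pos r → ht D M r.val ≤ ht D M (σ r).val := by
    intro r hr
    have h := lin_nonneg hD hR (g := fun q => -1 * g q + -1 * ht D M q)
      ((hg.smul _).addFun ((isLin_ht hD M).smul _)) (fun i hi => ?_) r.isLt hr
    · rw [hh]; omega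
    · have h1 := (d_le_ht hD hR (σ ⟨_, hD.simple_lt i hi⟩).isLt (hσp _ (hR.pos_simple hD hi))).1
      rw [hh] at h1
      have h2 : ht D M (D.simple i) = d := by
        show ((List.range D.rank).map fun k => co D M k (D.simple i)).sum = d
        rw [← List.sum_toFinset _ List.nodup_range, List.toFinset_range,
          Finset.sum_eq_single i (fun k hk hne => by
            rw [hR.dual k (Finset.mem_range.1 hk) i hi, if_neg hne])
            (fun h => absurd (Finset.mem_range.2 hi) h), hR.dual i hi i hi, if_pos rfl]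
      dsimp only at h1 ⊢
      omega
  let S : Finset (Fin D.nroots) := Finset.univ.filter fun r => R.pos r
  have himg : S.image σ = S := Finset.eq_of_subset_of_card_le
    (fun x hx => by
      obtain ⟨r, hr, rfl⟩ := Finset.mem_image.1 hx
      simpa [S] using hσp r (by simpa [S] using hr))
    (by rw [Finset.card_image_of_injective _ hσinj])
  have hsum : ∑ r ∈ S, ht D M r.val = ∑ r ∈ S, ht D M (σ r).val := by
    conv_lhs => rw [← himg, Finset.sum_image fun a _ b _ h => hσinj h]
  have heq := (Finset.sum_eq_sum_iff_of_le fun r hr => hge r (by simpa [S] using hr)).1 hsum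
  have hs : ∀ i : Fin D.rank, ∃ j : Fin D.rank, σ (R.simple i) = R.simple j := by
    intro i
    have h1 := heq (R.simple i) (by simpa [S] using R.pos_simple i)
    have hp := hσp _ (R.pos_simple i)
    have h2 : ht D M (D.simple i.val) = d := by
      show ((List.range D.rank).map fun k => co D M k (D.simple i.val)).sum = d
      rw [← List.sum_toFinset _ List.nodup_range, List.toFinset_range,
        Finset.sum_eq_single i.val (fun k hk hne => by
          rw [hR.dual k (Finset.mem_range.1 hk) i i.isLt, if_neg hne])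
          (fun h => absurd (Finset.mem_range.2 i.isLt) h), hR.dual i i.isLt i i.isLt, if_pos rfl]
    obtain ⟨j, hj, e'⟩ := (d_le_ht hD hR (σ (R.simple i)).isLt hp).2 (h1.symm.trans h2)
    exact ⟨⟨j, hj⟩, Fin.ext e'⟩
  choose ι hι using hs
  refine ⟨ι, Finite.surjective_of_injective fun a b hab => R.simple_inj (hσinj ?_), fun i => ?_⟩
  · rw [hι, hι, hab]
  · rw [← hι i]
    exact (R.neg_neg _).symm

section Sylow

variable [Fintype F] (p : ℕ) [hp : Fact p.Prime] [CharP F p]
include p hp

omit hR p hp in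
theorem pow_pred_eq_one {h : GL D.Idx F} (hh : h ∈ D.diagonalSubgroup F) :
    h ^ (Fintype.card F - 1) = 1 := by
  obtain ⟨χ, hχ, -⟩ := isToral_of_mem hD hh
  apply Units.ext
  rw [Units.val_pow_eq_pow_val, hχ, ChevBN.dg, Matrix.diagonal_pow, Units.val_one, ← Matrix.diagonal_one]
  congr 1
  ext a
  rcases a with i | s
  · simp
  · simp only [Pi.pow_apply, Sum.elim_inr]
    exact FiniteField.pow_card_sub_one_eq_one _ (χ s.val).ne_zero

theorem exists_sylow :
    ∃ P : Sylow p (D.group F), (P : Subgroup (D.group F)) = (D.posUnipotent F).subgroupOf (D.group F) := by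
  set R := chevRGD hD hR F
  set U := (D.posUnipotent F).subgroupOf (D.group F)
  obtain ⟨n, hpr, hq⟩ := FiniteField.card F p
  have hUle : D.posUnipotent F ≤ D.group F := le_trans le_sup_left (borel_le_group hD hR)
  have hP : IsPGroup p U := by
    refine IsPGroup.of_card (n := (n : ℕ) * (D.nroots / 2)) ?_
    rw [Nat.card_congr (Subgroup.subgroupOfEquivOfLe hUle).toEquiv, ChevOrder.card_posUnipotent hD,
      Nat.card_eq_fintype_card, hq, pow_mul]
  refine ⟨⟨U, hP, fun {Q} hQ hle => ?_⟩, rfl⟩
  by_contra hne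
  haveI : Finite (D.group F) := inferInstance
  haveI := hQ.isNilpotent
  set U' := U.subgroupOf Q
  have hlt : U' < ⊤ := lt_top_iff_ne_top.2 fun e =>
    hne (le_antisymm ((Subgroup.subgroupOf_eq_top.1 e)) hle)
  obtain ⟨-, g, hgN, hgU⟩ := SetLike.lt_iff_le_and_exists.1
    (Group.normalizerCondition_of_isNilpotent U' hlt)
  apply hgU
  set x : GL D.Idx F := ((g : D.group F) : GL D.Idx F) with hx
  have hxN : x ∈ Subgroup.normalizer (D.posUnipotent F : Set (GL D.Idx F)) := by
    rw [Subgroup.mem_normalizer_iff]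
    intro y
    constructor
    · intro hy
      have hyQ : (⟨y, hUle hy⟩ : D.group F) ∈ Q := hle hy
      exact (Subgroup.mem_normalizer_iff.1 hgN ⟨_, hyQ⟩).1 hy
    · intro hy
      have hyG : y ∈ D.group F := by
        have h1 := mul_mem (mul_mem (inv_mem (g : D.group F).2) (hUle hy)) (g : D.group F).2
        simpa [hx, mul_assoc] using h1
      have hyQ : (⟨y, hyG⟩ : D.group F) ∈ Q := by
        have h1 : (g : D.group F) * ⟨y, hyG⟩ * (g : D.group F)⁻¹ ∈ Q := hle hy
        have h2 := mul_mem (mul_mem (inv_mem g.2) h1) g.2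
        simpa [mul_assoc] using h2
      exact (Subgroup.mem_normalizer_iff.1 hgN ⟨_, hyQ⟩).2 hy
  have hxB : x ∈ R.B := by
    rw [← normalizer_Upos R]
    refine Subgroup.mem_inf.2 ⟨?_, ?_⟩
    · rw [chev_Upos hD hR]; exact hxN
    · rw [chev_G hD hR]; exact (g : D.group F).2
  obtain ⟨u, hu, h, hh, e⟩ := R.exists_B hxB
  rw [chev_Upos hD hR] at hu
  obtain ⟨k, hk⟩ : ∃ k, h ^ (p ^ k) = 1 := by
    have hhQ : (⟨h, (borel_le_group hD hR) (Subgroup.mem_sup_right hh)⟩ : D.group F) ∈ Q := by
      have h1 := mul_mem (inv_mem (hle (show (⟨u, hUle hu⟩ : D.group F) ∈ U from hu))) g.2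
      convert h1 using 1
      ext1
      show h = u⁻¹ * x
      rw [e]; group
    obtain ⟨k, hk⟩ := hQ ⟨_, hhQ⟩
    exact ⟨k, congrArg Subtype.val (congrArg Subtype.val hk)⟩
  have hcop : Nat.Coprime (p ^ k) (Fintype.card F - 1) := by
    refine Nat.Coprime.pow_left _ ((Nat.Prime.coprime_iff_not_dvd hp.out).2 fun hdvd => ?_)
    have h1 : p ∣ Fintype.card F := hq ▸ dvd_pow_self p n.ne_zero
    have h2 : Fintype.card F - (Fintype.card F - 1) = 1 := by
      have : 0 < Fintype.card F := Fintype.card_pos
      omega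
    exact hp.out.not_dvd_one (h2 ▸ Nat.dvd_sub h1 hdvd)
  have h1 : h = 1 := by
    rw [← orderOf_eq_one_iff]
    exact Nat.eq_one_of_dvd_coprimes hcop (orderOf_dvd_of_pow_eq_one hk)
      (orderOf_dvd_of_pow_eq_one (pow_pred_eq_one hD hh))
  show x ∈ D.posUnipotent F
  rw [e, h1, mul_one]
  exact hu

theorem exists_maps_conj (θ : D.group F ≃* D.group F) :
    ∃ g ∈ D.group F, Maps θ (chevRGD hD hR F).Upos
      ((chevRGD hD hR F).Upos.map (MulAut.conj g).toMonoidHom) := by
  obtain ⟨P, hP⟩ := exists_sylow hD hR (F := F) p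
  obtain ⟨Q, hQ⟩ := (P.isPGroup'.map θ.toMonoidHom).exists_le_sylow
  obtain ⟨g, hg⟩ := MulAction.exists_smul_eq (D.group F) P Q
  have hQg : (Q : Subgroup (D.group F)) =
      (P : Subgroup (D.group F)).map (MulAut.conj g).toMonoidHom := by
    rw [← hg]; rfl
  have heq : (P : Subgroup (D.group F)).map θ.toMonoidHom = (Q : Subgroup (D.group F)) := by
    refine Subgroup.eq_of_le_of_card_ge hQ (le_of_eq ?_)
    rw [hQg, Subgroup.card_map_of_injective (MulEquiv.injective _),
      Subgroup.card_map_of_injective θ.injective]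
  refine ⟨g, g.2, fun y => ?_⟩
  rw [chev_Upos hD hR]
  have h1 : (θ y ∈ (P : Subgroup (D.group F)).map θ.toMonoidHom) ↔ (y : GL D.Idx F) ∈ D.posUnipotent F := by
    rw [Subgroup.mem_map_equiv, θ.symm_apply_apply, hP]; rfl
  rw [← h1, heq, hQg, Subgroup.mem_map_equiv, hP, RGD.RootData.mem_map_conj]
  simp [Subgroup.mem_subgroupOf]

/-- After an inner automorphism, the fundamental root subgroups are permuted. -/
theorem exists_normalised (θ : D.group F ≃* D.group F) :
    ∃ (x : D.group F) (π π' : Fin D.rank → Fin D.rank),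
      Maps (θ.trans (MulAut.conj x)) (D.diagonalSubgroup F) (D.diagonalSubgroup F) ∧
      (∀ i : Fin D.rank, Maps (θ.trans (MulAut.conj x)) (D.rootSubgroup F (D.simple i))
        (D.rootSubgroup F (D.simple (π i)))) ∧
      ∀ i : Fin D.rank, Maps (θ.trans (MulAut.conj x)) (D.rootSubgroup F (D.neg (D.simple i)))
        (D.rootSubgroup F (D.neg (D.simple (π' i)))) := by
  obtain ⟨l, hl⟩ := exists_long hD hR (F := F)
  obtain ⟨ι, hι', hι⟩ := exists_long_simple hD hR F hl
  obtain ⟨g, hg, hU⟩ := exists_maps_conj hD hR (F := F) p θ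
  have hK := chev_G hD hR (F := F)
  obtain ⟨x, h1, h2⟩ := exists_fix_pair (chevRGD hD hR F) hl hK θ hg hU
  choose π hπ using exists_maps_pos (chevRGD hD hR F) hl hK h1 h2 ι hι hι'
  choose π' hπ' using exists_maps_neg (chevRGD hD hR F) hl hK h1 h2
  exact ⟨x, π, π', maps_H (chevRGD hD hR F) hl hK h1 h2, hπ, hπ'⟩

end Sylow

end Cfsg.Agent.ChevAut
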