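import Cfsg.Agent.Lib.ChevAut.RankOneAut
import Cfsg.Agent.Lib.ChevSt.Auto

/-!
# Diagonal and field automorphisms

* `aut_ext` : automorphisms are determined on the fundamental root elements;
* `chiOf` : the character with prescribed values at the fundamental roots;
* `exists_diagAut`, `exists_fieldAut`, and their actions on root elements.
-/

set_option autoImplicit false

namespace Cfsg.Agent.ChevAut

open Cfsg.Lie Cfsg.Lie.ChevalleyDatum Cfsg.Agent.Chev Cfsg.Agent.ChevBN Cfsg.Agent.ChevSt Matrix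

variable {D : ChevalleyDatum} {M : List (List ℤ)} {d : ℤ} {F : Type*} [Field F]
  (hD : Good D) (hR : Roots D M d)

include hD in
theorem xg_inj {r : ℕ} (hr : r < D.nroots) {t u : F} (h : xg hD F r t = xg hD F r u) : t = u := by
  refine sub_eq_zero.1 (xg_eq_one hD hr ?_)
  rw [sub_eq_add_neg, ← xg_add hD hr, h, ← xg_inv, mul_inv_cancel]

include hD in
theorem gx_inj {r : ℕ} (hr : r < D.nroots) {t u : F} (h : gx hD r t = gx hD r u) : t = u :=
  xg_inj hD hr (congrArg Subtype.val h)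

include hD hR in
theorem aut_ext {φ ψ : D.group F ≃* D.group F}
    (h : ∀ (i : Fin D.rank) (t : F), φ (gx hD (D.simple i) t) = ψ (gx hD (D.simple i) t) ∧
      φ (gx hD (D.neg (D.simple i)) t) = ψ (gx hD (D.neg (D.simple i)) t)) : φ = ψ := by
  have e : φ.toMonoidHom = ψ.toMonoidHom := hom_ext_simple hD hR fun i hi t => h ⟨i, hi⟩ t
  exact MulEquiv.ext fun y => DFunLike.congr_fun e y

/-- The integer coefficient of the root `q` at the fundamental root `k`. -/
def coef (D : ChevalleyDatum) (M : List (List ℤ)) (d : ℤ) (k q : ℕ) : ℤ := co D M k q / d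

/-- The character with values `c` at the fundamental roots. -/
def chiOf (D : ChevalleyDatum) (M : List (List ℤ)) (d : ℤ) (c : Fin D.rank → Fˣ) (q : ℕ) : Fˣ :=
  ∏ k : Fin D.rank, c k ^ coef D M d k q

include hD hR

theorem d_dvd_co {q : ℕ} (hq : q < D.nroots) {k : ℕ} (hk : k < D.rank) : d ∣ co D M k q := by
  suffices hp : ∀ q < D.nroots, D.IsPosRoot q → d ∣ co D M k q by
    by_cases hpq : D.IsPosRoot q
    · exact hp q hq hpq
    · have := hp _ (hD.neg_lt q hq) ((pos_or_neg hD hq).2 hpq)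
      rwa [hR.co_neg hD hq, Int.dvd_neg] at this
  intro q hq hp
  refine (hR.pos_induction hD (P := fun q => q < D.nroots ∧ d ∣ co D M k q) ?_ ?_ hq hp).2
  · intro i hi
    refine ⟨hD.simple_lt i hi, ?_⟩
    rw [hR.dual k hk i hi]
    split <;> simp
  · rintro i hi q hq' ⟨-, h⟩
    refine ⟨refl_lt hD (hD.simple_lt i hi) hq', ?_⟩
    rw [hR.co_refl hD hi hq' hk]
    refine Int.dvd_sub h ?_
    split <;> simp

theorem chiOf_isRootCharacter (c : Fin D.rank → Fˣ) : D.IsRootCharacter (chiOf D M d c) := by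
  constructor
  · intro r hr
    rw [chiOf, chiOf, ← Finset.prod_inv_distrib]
    refine Finset.prod_congr rfl fun k _ => ?_
    rw [coef, hR.co_neg hD hr, Int.neg_ediv_of_dvd (d_dvd_co hD hR hr k.isLt), _root_.zpow_neg, coef]
  · intro r s k hr hs hk
    rw [chiOf, chiOf, chiOf, ← Finset.prod_mul_distrib]
    refine Finset.prod_congr rfl fun i _ => ?_
    rw [coef, (isLin_co hD M i.val).add r hr s hs k hk, Int.add_ediv_of_dvd_left (d_dvd_co hD hR hr i.isLt),
      _root_.zpow_add, coef, coef]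

theorem chiOf_simple (c : Fin D.rank → Fˣ) (j : Fin D.rank) : chiOf D M d c (D.simple j) = c j := by
  rw [chiOf, Fintype.prod_eq_single j fun k hk => by
    rw [coef, hR.dual k.val k.isLt j.val j.isLt, if_neg fun e => hk (Fin.ext e), Int.zero_ediv,
      zpow_zero],
    coef, hR.dual j.val j.isLt j.val j.isLt, if_pos rfl, Int.ediv_self hR.d_pos.ne', zpow_one]

omit hR hD in
theorem isRootCharacter_inv {χ : ℕ → Fˣ} (hχ : D.IsRootCharacter χ) : D.IsRootCharacter fun r => (χ r)⁻¹ :=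
  ⟨fun r hr => by simp only [hχ.1 r hr], fun r s k hr hs hk => by simp only [hχ.2 r s k hr hs hk, mul_inv]⟩

omit hR hD in
theorem isRootCharacter_mul {χ ψ : ℕ → Fˣ} (hχ : D.IsRootCharacter χ) (hψ : D.IsRootCharacter ψ) :
    D.IsRootCharacter fun r => χ r * ψ r :=
  ⟨fun r hr => by simp only [hχ.1 r hr, hψ.1 r hr, mul_inv],
    fun r s k hr hs hk => by simp only [hχ.2 r s k hr hs hk, hψ.2 r s k hr hs hk, mul_mul_mul_comm]⟩

omit hR hD in
theorem isRootCharacter_one : D.IsRootCharacter (fun _ => (1 : Fˣ)) :=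
  ⟨fun _ _ => by simp, fun _ _ _ _ _ _ => by simp⟩

omit hR hD in
theorem isRootCharacter_map {χ : ℕ → Fˣ} (hχ : D.IsRootCharacter χ) (f : Fˣ →* Fˣ) :
    D.IsRootCharacter fun r => f (χ r) :=
  ⟨fun r hr => by simp only [hχ.1 r hr, map_inv],
    fun r s k hr hs hk => by simp only [hχ.2 r s k hr hs hk, map_mul]⟩

omit hR hD in
theorem charDiag_mul (χ ψ : ℕ → Fˣ) :
    D.charDiag F χ * D.charDiag F ψ = D.charDiag F fun r => χ r * ψ r := by
  rw [ChevalleyDatum.charDiag, ChevalleyDatum.charDiag, ChevalleyDatum.charDiag, Matrix.diagonal_mul_diagonal]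
  congr 1
  ext a
  rcases a with i | s <;> simp

omit hR hD in
theorem charDiag_one : D.charDiag F (fun _ => (1 : Fˣ)) = 1 := by
  rw [ChevalleyDatum.charDiag, ← Matrix.diagonal_one]
  congr 1
  ext a
  rcases a with i | s <;> simp

/-- The diagonal matrix of a character as a unit. -/
def charUnit (D : ChevalleyDatum) (χ : ℕ → Fˣ) : GL D.Idx F :=
  ⟨D.charDiag F χ, D.charDiag F fun r => (χ r)⁻¹, by simp [charDiag_mul, charDiag_one],
    by simp [charDiag_mul, charDiag_one]⟩

omit hR in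
theorem charUnit_conj {χ : ℕ → Fˣ} (hχ : D.IsRootCharacter χ) {r : ℕ} (hr : r < D.nroots) (t : F) :
    charUnit D χ * xg hD F r t * (charUnit D χ)⁻¹ = xg hD F r ((χ r : F) * t) := by
  rw [mul_inv_eq_iff_eq_mul]
  exact Units.ext (charDiag_conj hD hχ hr t)

omit hR in
theorem charUnit_conj_mem {χ : ℕ → Fˣ} (hχ : D.IsRootCharacter χ) {g : GL D.Idx F} (hg : g ∈ D.group F) :
    charUnit D χ * g * (charUnit D χ)⁻¹ ∈ D.group F := by
  have : D.group F ≤ (D.group F).comap (MulAut.conj (charUnit D χ)).toMonoidHom := by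
    refine (Subgroup.closure_le _).2 ?_
    rintro x ⟨r, t, e⟩
    obtain rfl : x = xg hD F r.val t := Units.ext (by rw [e]; simp [ChevalleyDatum.x])
    show charUnit D χ * xg hD F r.val t * (charUnit D χ)⁻¹ ∈ D.group F
    rw [charUnit_conj hD hχ r.isLt]
    exact xg_mem_group hD _ _
  exact this hg

omit hR in
theorem exists_diagAut {χ : ℕ → Fˣ} (hχ : D.IsRootCharacter χ) :
    ∃ φ : D.group F ≃* D.group F, D.IsDiagonalAut φ ∧
      ∀ (r : ℕ) (t : F), r < D.nroots → φ (gx hD r t) = gx hD r ((χ r : F) * t) := by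
  let C := charUnit D χ
  have h1 : (D.group F).map (MulAut.conj C).toMonoidHom = D.group F := by
    refine le_antisymm (Subgroup.map_le_iff_le_comap.2 fun g hg => charUnit_conj_mem hD hχ hg) fun g hg => ?_
    have h2 := charUnit_conj_mem hD (isRootCharacter_inv hχ) hg
    have hinv : charUnit D (fun r => (χ r)⁻¹) = C⁻¹ := by
      apply Units.ext
      rfl
    rw [hinv, inv_inv] at h2
    exact ⟨C⁻¹ * g * C, h2, by simp [mul_assoc]⟩
  refine ⟨((MulAut.conj C).subgroupMap _).trans (MulEquiv.subgroupCongr h1), ⟨χ, hχ, fun g => ?_⟩,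
    fun r t hr => Subtype.ext ?_⟩
  · rfl
  · exact charUnit_conj hD hχ hr t

omit hR in
theorem diagAut_apply {φ : D.group F ≃* D.group F} {χ : ℕ → Fˣ} (hχ : D.IsRootCharacter χ)
    (h : ∀ g : D.group F, ((φ g : GL D.Idx F) : Matrix D.Idx D.Idx F) =
      D.charDiag F χ * ((g : GL D.Idx F) : Matrix D.Idx D.Idx F) * D.charDiag F (fun r => (χ r)⁻¹))
    {r : ℕ} (hr : r < D.nroots) (t : F) : φ (gx hD r t) = gx hD r ((χ r : F) * t) := by
  apply Subtype.ext
  refine Eq.trans ?_ (charUnit_conj hD hχ hr t)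
  exact Units.ext (h _)

/-- Two characters agreeing at the fundamental roots agree. -/
theorem char_ext {χ ψ : ℕ → Fˣ} (hχ : D.IsRootCharacter χ) (hψ : D.IsRootCharacter ψ)
    (h : ∀ i : Fin D.rank, χ (D.simple i) = ψ (D.simple i)) {r : ℕ} (hr : r < D.nroots) : χ r = ψ r := by
  obtain ⟨φ, -, hφ⟩ := exists_diagAut hD hχ
  obtain ⟨φ', -, hφ'⟩ := exists_diagAut hD hψ
  have e : φ = φ' := aut_ext hD hR fun i t => by
    have hi := hD.simple_lt _ i.isLt
    rw [hφ _ _ hi, hφ' _ _ hi, hφ _ _ (hD.neg_lt _ hi), hφ' _ _ (hD.neg_lt _ hi), hχ.1 _ hi, hψ.1 _ hi, h i]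
    exact ⟨rfl, rfl⟩
  have h1 := hφ r 1 hr
  rw [e, hφ' r 1 hr] at h1
  have := gx_inj hD hr h1
  rw [mul_one, mul_one] at this
  exact (Units.ext this).symm

omit hR in
theorem exists_fieldAut (σ : F ≃+* F) :
    ∃ α : D.group F ≃* D.group F, D.IsFieldAut α ∧
      ∀ (r : ℕ) (t : F), r < D.nroots → α (gx hD r t) = gx hD r (σ t) := by
  have hx : ∀ (h : F ≃+* F) (r : ℕ), r < D.nroots → ∀ t : F, (D.x F r t).map h = D.x F r (h t) :=
    fun h r hr t => by
      rw [x_eq_xR D hr, x_eq_xR D hr]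
      exact xR_map D (h : F →+* F) r t
  let e : GL D.Idx F ≃* GL D.Idx F := Units.mapEquiv σ.mapMatrix.toMulEquiv
  have hmap : ∀ (h : F ≃+* F) (g : GL D.Idx F), g ∈ D.group F →
      Units.mapEquiv h.mapMatrix.toMulEquiv g ∈ D.group F := by
    intro h g hg'
    induction hg' using Subgroup.closure_induction with
    | mem x hx' =>
      obtain ⟨r, t, ht⟩ := hx'
      refine Subgroup.subset_closure ⟨r, h t, ?_⟩
      have := hx h r.val r.isLt t
      simp only [ChevalleyDatum.x, dif_pos r.isLt, Fin.eta] at this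
      rw [← this, ← ht]
      rfl
    | one => rw [map_one]; exact one_mem _
    | mul a b _ _ ha hb => rw [map_mul]; exact mul_mem ha hb
    | inv a _ ha => rw [map_inv]; exact inv_mem ha
  have heq : (D.group F).map e.toMonoidHom = D.group F := by
    refine le_antisymm (Subgroup.map_le_iff_le_comap.2 fun g hg' => hmap σ g hg') fun g hg' => ?_
    refine ⟨Units.mapEquiv σ.symm.mapMatrix.toMulEquiv g, hmap σ.symm g hg', ?_⟩
    apply Units.ext
    ext a b
    simp [e]
  refine ⟨(e.subgroupMap _).trans (MulEquiv.subgroupCongr heq), ⟨σ, fun g r t hr hgr => ?_⟩,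
    fun r t hr => Subtype.ext (Units.ext (hx σ r hr t))⟩
  show ((g : GL D.Idx F) : Matrix D.Idx D.Idx F).map σ = _
  rw [hgr, hx σ r hr t]

omit hR in
theorem fieldAut_apply {α : D.group F ≃* D.group F} {σ : F ≃+* F}
    (h : ∀ (g : D.group F) (r : ℕ) (t : F), r < D.nroots →
      ((g : GL D.Idx F) : Matrix D.Idx D.Idx F) = D.x F r t →
      ((α g : GL D.Idx F) : Matrix D.Idx D.Idx F) = D.x F r (σ t))
    {r : ℕ} (hr : r < D.nroots) (t : F) : α (gx hD r t) = gx hD r (σ t) :=
  Subtype.ext (Units.ext (h _ r t hr rfl))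

omit hR in
theorem graphAut_apply {g : D.group F ≃* D.group F} {π : Equiv.Perm (Fin D.rank)}
    (h : ∀ (y : D.group F) (i : Fin D.rank) (t : F),
      (((y : GL D.Idx F) : Matrix D.Idx D.Idx F) = D.x F (D.simple i) t →
        ((g y : GL D.Idx F) : Matrix D.Idx D.Idx F) =
          D.x F (D.simple (π i)) (t ^ D.graphExp (ringChar F) i (π i))) ∧
      (((y : GL D.Idx F) : Matrix D.Idx D.Idx F) = D.x F (D.neg (D.simple i)) t →
        ((g y : GL D.Idx F) : Matrix D.Idx D.Idx F) =
          D.x F (D.neg (D.simple (π i))) (t ^ D.graphExp (ringChar F) i (π i))))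
    (i : Fin D.rank) (t : F) :
    g (gx hD (D.simple i) t) = gx hD (D.simple (π i)) (t ^ D.graphExp (ringChar F) i (π i)) ∧
    g (gx hD (D.neg (D.simple i)) t) =
      gx hD (D.neg (D.simple (π i))) (t ^ D.graphExp (ringChar F) i (π i)) :=
  ⟨Subtype.ext (Units.ext ((h _ i t).1 rfl)), Subtype.ext (Units.ext ((h _ i t).2 rfl))⟩

omit hR in
theorem isGraphAut_of_apply {g : D.group F ≃* D.group F} {π : Equiv.Perm (Fin D.rank)}
    (hπ : D.IsDiagramSymmetry π)
    (h : ∀ (i : Fin D.rank) (t : F),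
      g (gx hD (D.simple i) t) = gx hD (D.simple (π i)) (t ^ D.graphExp (ringChar F) i (π i)) ∧
      g (gx hD (D.neg (D.simple i)) t) =
        gx hD (D.neg (D.simple (π i))) (t ^ D.graphExp (ringChar F) i (π i))) : D.IsGraphAut g := by
  refine ⟨π, hπ, fun y i t => ⟨fun e => ?_, fun e => ?_⟩⟩
  · rw [show y = gx hD (D.simple i) t from Subtype.ext (Units.ext e), (h i t).1]; rfl
  · rw [show y = gx hD (D.neg (D.simple i)) t from Subtype.ext (Units.ext e), (h i t).2]; rfl

end Cfsg.Agent.ChevAut
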