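import Cfsg.Agent.Lib.ChevAut.Diagram

/-!
# The diagram facts for the seven data
-/

set_option autoImplicit false
set_option maxRecDepth 100000

namespace Cfsg.Agent.ChevAut

open Cfsg.Lie

theorem diagG2 : DiagOK chevG2 [0, 1] = true := by decide +kernel
theorem diagB2 : DiagOK chevB2 [0, 1] = true := by decide +kernel
theorem diagD4 : DiagOK chevD4 [1, 0, 2, 3] = true := by decide +kernel
theorem diagF4 : DiagOK chevF4 [0, 1, 2, 3] = true := by decide +kernel
theorem diagE6 : DiagOK chevE6 [0, 2, 3, 1, 4, 5] = true := by decide +kernel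
theorem diagE7 : DiagOK chevE7 [0, 2, 3, 1, 4, 5, 6] = true := by decide +kernel
theorem diagE8 : DiagOK chevE8 [0, 2, 3, 1, 4, 5, 6, 7] = true := by decide +kernel

theorem diag_of_mem {D : ChevalleyDatum}
    (hD : D ∈ [chevG2, chevB2, chevD4, chevF4, chevE6, chevE7, chevE8]) : ∃ ord, DiagOK D ord = true := by
  simp only [List.mem_cons, List.not_mem_nil, or_false] at hD
  rcases hD with rfl | rfl | rfl | rfl | rfl | rfl | rfl
  exacts [⟨_, diagG2⟩, ⟨_, diagB2⟩, ⟨_, diagD4⟩, ⟨_, diagF4⟩, ⟨_, diagE6⟩, ⟨_, diagE7⟩, ⟨_, diagE8⟩]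

end Cfsg.Agent.ChevAut
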