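import Cfsg.Agent.Lib.ChevAut.RankOneAut
import Cfsg.Agent.Lib.ChevBN.RootTables
import Cfsg.Agent.Lib.Chev.DataG2

/-!
# No exceptional automorphism of `G₂` in characteristic two

`g2_no_swap` : no injective endomorphism exchanges `x_{±a}(1)` and `x_{±b}(1)`.
-/

set_option autoImplicit false

namespace Cfsg.Agent.ChevAut

open Cfsg.Lie Cfsg.Lie.ChevalleyDatum Cfsg.Agent.Chev Cfsg.Agent.ChevBN Cfsg.Agent.ChevSt

theorem g2_tables :
    chevG2.simple 0 = 7 ∧ chevG2.simple 1 = 6 ∧ chevG2.nroots = 12 ∧ chevG2.rank = 2 ∧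
    wN chevG2 1 7 = 8 ∧ wN chevG2 0 6 = 10 ∧ chevG2.neg 6 ≠ 10 ∧ chevG2.neg 6 ≠ 11 ∧ chevG2.neg 7 ≠ 8 ∧
    chevG2.neg 7 ≠ 11 ∧
    chevG2.commTerms 6 10 = [(11, 1, 1, 1)] ∧ chevG2.commTerms 6 11 = [] ∧ chevG2.commTerms 7 11 = [] ∧
    chevG2.commTerms 7 8 = [(9, -2, 1, 1), (10, -3, 2, 1), (11, 3, 1, 2)] := by
  decide +kernel

theorem g2_no_swap {F : Type*} [Field F] [CharP F 2] (φ : chevG2.group F →* chevG2.group F)
    (hinj : Function.Injective φ)
    (hab : φ (gx DataG2.good (chevG2.simple 0) 1) = gx DataG2.good (chevG2.simple 1) 1)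
    (hab' : φ (gx DataG2.good (chevG2.neg (chevG2.simple 0)) 1) = gx DataG2.good (chevG2.neg (chevG2.simple 1)) 1)
    (hba : φ (gx DataG2.good (chevG2.simple 1) 1) = gx DataG2.good (chevG2.simple 0) 1)
    (hba' : φ (gx DataG2.good (chevG2.neg (chevG2.simple 1)) 1) = gx DataG2.good (chevG2.neg (chevG2.simple 0)) 1) :
    False := by
  obtain ⟨e0, e1, hn, hrk, hw1, hw0, n1, n2, n3, n4, t1, t2, t3, t4⟩ := g2_tables
  have hD : Good chevG2 := DataG2.good
  have hneg1 : (-1 : F) = 1 := CharTwo.neg_eq 1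
  let x : ℕ → F → GL chevG2.Idx F := fun r t => xg hD F r t
  let n : ℕ → chevG2.group F := fun i =>
    gx hD (chevG2.simple i) 1 * gx hD (chevG2.neg (chevG2.simple i)) 1 * gx hD (chevG2.simple i) 1
  have hnc : ∀ i, (n i : GL chevG2.Idx F) = ng hD F (chevG2.simple i) 1 := fun i => by
    simp [n, gx, ng, inv_one, hneg1]
  have hcomm : ∀ r s, r < 12 → s < 12 → s ≠ r → s ≠ chevG2.neg r →
      x s 1 * x r 1 = x r 1 * x s 1 *
        ((chevG2.commTerms r s).map fun c => x c.1 ((c.2.1 : F))).prod := by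
    intro r s hr hs h1 h2
    apply Units.ext
    rw [Units.val_mul, Units.val_mul, Units.val_mul, coe_xg, coe_xg,
      hD.commutator (hn ▸ hr) (hn ▸ hs) h1 h2, ← Units.coeHom_apply (List.prod _), map_list_prod,
      ChevalleyDatum.wordMat, ChevalleyDatum.commWord, List.map_map, List.map_map]
    congr 2
    refine List.map_congr_left fun c _ => ?_
    simp [x, Function.comp, hneg1]
  have hsign : ∀ i, i < 2 → ∀ q, q < 12 → ∀ hni : GL chevG2.Idx F, hni = ng hD F (chevG2.simple i) 1 →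
      hni * x q 1 * hni⁻¹ = x (wN chevG2 i q) 1 := by
    rintro i hi q hq _ rfl
    rw [ng_conj_xg hD (hrk ▸ hi) (hn ▸ hq), mul_one]
    rcases (nSign_cases hD (hD.simple_lt i (hrk ▸ hi)) (hn ▸ hq)).1 with h | h <;> simp [x, h, hneg1]
  let Y : chevG2.group F := n 1 * gx hD (chevG2.simple 0) 1 * (n 1)⁻¹
  let Z : chevG2.group F := n 0 * gx hD (chevG2.simple 1) 1 * (n 0)⁻¹
  have hY : (Y : GL chevG2.Idx F) = x 8 1 := by
    simp only [Y, Subgroup.coe_mul, Subgroup.coe_inv, hnc, gx, e0]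
    rw [hsign 1 (by norm_num) 7 (by norm_num) _ rfl, hw1]
  have hZ : (Z : GL chevG2.Idx F) = x 10 1 := by
    simp only [Z, Subgroup.coe_mul, Subgroup.coe_inv, hnc, gx, e1]
    rw [hsign 0 (by norm_num) 6 (by norm_num) _ rfl, hw0]
  have hφn : φ (n 0) = n 1 ∧ φ (n 1) = n 0 := by
    constructor <;> simp [n, hab, hab', hba, hba']
  have hφZ : φ Z = Y := by simp [Z, Y, hφn.1, hba]
  let a := gx hD (chevG2.simple 0) (1 : F)
  let b := gx hD (chevG2.simple 1) (1 : F)
  let W : chevG2.group F := (b * Z)⁻¹ * (Z * b)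
  have hc1 := hcomm 6 10 (by norm_num) (by norm_num) (by norm_num) (Ne.symm n1)
  rw [t1] at hc1
  have hW : (W : GL chevG2.Idx F) = x 11 1 := by
    show (x (chevG2.simple 1) 1 * (Z : GL chevG2.Idx F))⁻¹ * ((Z : GL chevG2.Idx F) * x (chevG2.simple 1) 1) = _
    rw [e1, hZ, hc1]
    simp [mul_assoc]
  have hWa : W * a = a * W := Subtype.ext (by
    have h := hcomm 7 11 (by norm_num) (by norm_num) (by norm_num) (Ne.symm n4)
    rw [t3] at h
    show (W : GL chevG2.Idx F) * x (chevG2.simple 0) 1 = x (chevG2.simple 0) 1 * (W : GL chevG2.Idx F)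
    rw [e0, hW, h]
    simp)
  have hφW : φ W = (a * Y)⁻¹ * (Y * a) := by simp [W, a, b, hφZ, hba]
  have h1 : (φ W : GL chevG2.Idx F) = x 10 1 * x 11 1 := by
    rw [hφW]
    show (x (chevG2.simple 0) 1 * (Y : GL chevG2.Idx F))⁻¹ * ((Y : GL chevG2.Idx F) * x (chevG2.simple 0) 1) = _
    rw [e0, hY, hcomm 7 8 (by norm_num) (by norm_num) (by norm_num) (Ne.symm n3), t4]
    have h2 : ((-2 : ℤ) : F) = 0 := by push_cast; simp [CharTwo.two_eq_zero]
    have h3 : ((-3 : ℤ) : F) = 1 := by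
      push_cast; linear_combination (-2 : F) * CharTwo.two_eq_zero (R := F)
    have h3' : ((3 : ℤ) : F) = 1 := by
      push_cast; linear_combination CharTwo.two_eq_zero (R := F)
    have h3'' : (3 : F) = 1 := by linear_combination CharTwo.two_eq_zero (R := F)
    simp [h2, h3, h3', h3'', x, xg_zero, mul_assoc]
  have h2 := congrArg (fun g : chevG2.group F => (g : GL chevG2.Idx F)) (congrArg φ hWa)
  simp only [map_mul, a, hab, Subgroup.coe_mul, h1] at h2
  change x 10 1 * x 11 1 * x (chevG2.simple 1) 1 = x (chevG2.simple 1) 1 * (x 10 1 * x 11 1) at h2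
  rw [e1] at h2
  have hc2 := hcomm 6 11 (by norm_num) (by norm_num) (by norm_num) (Ne.symm n2)
  rw [t2] at hc2
  simp only [List.map_nil, List.prod_nil, mul_one] at hc2
  rw [mul_assoc, hc2, ← mul_assoc, hc1] at h2
  simp only [List.map_cons, List.map_nil, List.prod_cons, List.prod_nil, mul_one, Int.cast_one, mul_assoc,
    mul_right_inj] at h2
  exact one_ne_zero (xg_eq_one hD (hn.symm ▸ (by norm_num) : 11 < chevG2.nroots) (mul_eq_right.1 h2))

end Cfsg.Agent.ChevAut
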