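import Cfsg.Agent.Lib.ChevAut.Symmetry
import Cfsg.Agent.Lib.ChevAut.Char
import Cfsg.Agent.Lib.ChevAut.DiagramTables
import Cfsg.Agent.Lib.ChevAut.G2Two
import Cfsg.Agent.Lib.ChevBN.RootTables
import Cfsg.Agent.Lib.ChevBN.Data
import Cfsg.Agent.Lib.Chev.All
import Mathlib.FieldTheory.Perfect

/-!
# The automorphism theorem

`aut_decomposition` : every automorphism of a finite Chevalley group is inner · diagonal · graph · field.
-/

set_option autoImplicit false

namespace Cfsg.Agent.ChevAut

open Cfsg.Lie Cfsg.Lie.ChevalleyDatum Cfsg.Agent.Chev Cfsg.Agent.ChevBN Cfsg.Agent.ChevSt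

theorem bonds_ne_three_E8 : ∀ i < chevE8.rank, ∀ j < chevE8.rank, chevE8.bonds i j ≠ 3 := by decide +kernel

theorem bonds_ne_three_small : ∀ D ∈ [chevB2, chevD4, chevF4, chevE6, chevE7],
    ∀ i < D.rank, ∀ j < D.rank, D.bonds i j ≠ 3 := by decide +kernel

theorem eq_g2_of_bonds {D : ChevalleyDatum}
    (hD : D ∈ [chevG2, chevB2, chevD4, chevF4, chevE6, chevE7, chevE8]) {i j : Fin D.rank}
    (h : D.bonds i j = 3) : D = chevG2 := by
  simp only [List.mem_cons, List.not_mem_nil, or_false] at hD
  rcases hD with rfl | rfl | rfl | rfl | rfl | rfl | rfl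
  · rfl
  all_goals exfalso
  all_goals first
    | exact bonds_ne_three_E8 i i.isLt j j.isLt h
    | exact bonds_ne_three_small _ (by simp) i i.isLt j j.isLt h

theorem g2_short : ∀ i < chevG2.rank, chevG2.isLong (chevG2.simple i) = decide (i = 1) := by decide +kernel

variable {D : ChevalleyDatum} {F : Type*} [Field F]

/-- `ψ` is given on the fundamental root elements by field automorphisms. -/
def ActsBy (hD : Good D) (ψ : D.group F ≃* D.group F) (π : Equiv.Perm (Fin D.rank))
    (σ : Fin D.rank → F ≃+* F) : Prop :=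
  ∀ (i : Fin D.rank) (t : F),
    ψ (gx hD (D.simple i) t) = gx hD (D.simple (π i)) (σ i t) ∧
      ψ (gx hD (D.neg (D.simple i)) t) = gx hD (D.neg (D.simple (π i))) (σ i t)

variable {M : List (List ℤ)} {d : ℤ} {ord : List ℕ} (hD : Good D) (hR : Roots D M d)
  (hG : DiagOK D ord = true) {ψ : D.group F ≃* D.group F} {π : Equiv.Perm (Fin D.rank)}
  {σ : Fin D.rank → F ≃+* F} (hψ : ActsBy hD ψ π σ)
include hR hψ

/-- The action of the torus forces this. -/
theorem torus_relation (i j : Fin D.rank) {t : F} (ht : t ≠ 0) :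
    σ j (t ^ D.cartan i (D.simple j)) = σ i t ^ D.cartan (π i) (D.simple (π j)) := by
  have hi := hD.simple_lt _ i.isLt
  have hj := hD.simple_lt _ j.isLt
  have hti : σ i t ≠ 0 := (map_ne_zero_iff _ (σ i).injective).2 ht
  have hn : ∀ a : F, ψ (gx hD (D.simple i) a * gx hD (D.neg (D.simple i)) (-a⁻¹) * gx hD (D.simple i) a) =
      gx hD (D.simple (π i)) (σ i a) * gx hD (D.neg (D.simple (π i))) (-(σ i a)⁻¹) *
        gx hD (D.simple (π i)) (σ i a) := fun a => by
    rw [map_mul, map_mul, (hψ i a).1, (hψ i _).2, map_neg, map_inv₀]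
  let h : D.group F := (gx hD (D.simple i) t * gx hD (D.neg (D.simple i)) (-t⁻¹) * gx hD (D.simple i) t) *
    (gx hD (D.simple i) (-1) * gx hD (D.neg (D.simple i)) (-(-1)⁻¹) * gx hD (D.simple i) (-1))
  have hh : (h : GL D.Idx F) = hg hD F (D.simple i) t := rfl
  have hh' : (ψ h : GL D.Idx F) = hg hD F (D.simple (π i)) (σ i t) := by
    simp only [h, map_mul ψ (_ * _ * _) (_ * _ * _), hn, map_neg, map_one]
    rfl
  have e : h * gx hD (D.simple j) 1 * h⁻¹ = gx hD (D.simple j) (t ^ D.cartan i (D.simple j)) := by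
    apply Subtype.ext
    show (h : GL D.Idx F) * xg hD F _ 1 * (h : GL D.Idx F)⁻¹ = xg hD F _ _
    rw [hh, hg_conj hD hi ht, mul_inv_cancel_right, mul_one, pairing_simple hD i.isLt]
  have e' := congrArg (fun y : D.group F => (y : GL D.Idx F)) (congrArg ψ e)
  simp only [map_mul, map_inv, (hψ j _).1, Subgroup.coe_mul, Subgroup.coe_inv, hh'] at e'
  simp only [gx] at e'
  rw [hg_conj hD (hD.simple_lt _ (π i).isLt) hti, mul_inv_cancel_right, map_one, mul_one,
    pairing_simple hD (π i).isLt] at e'
  exact (xg_inj hD (hD.simple_lt _ (π j).isLt) e').symm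

variable (hπ : D.IsDiagramSymmetry π) (p : ℕ) [hp : Fact p.Prime] [CharP F p]
  (hlist : D ∈ [chevG2, chevB2, chevD4, chevF4, chevE6, chevE7, chevE8])
include hG hπ hlist

/-- A short node sent to a long one next to a long node sent to a short one. -/
theorem char_of_swap [Finite F] {i j : Fin D.rank} (hij : i ≠ j) (hb : 2 ≤ D.bonds i j)
    (hLi : D.isLong (D.simple i) = false) (hLj : D.isLong (D.simple j) = true)
    (hi : D.isLong (D.simple (π i)) = true)
    (hrel : ∀ t : F, σ i t = σ j t ^ (D.bonds i j).toNat) : (p : ℤ) = D.bonds i j := by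
  have hb3 := (cartan_pair hG hij).2
  simp only [List.mem_cons, List.not_mem_nil, or_false] at hb3
  rcases hb3 with h | h | h | h <;> try omega
  · rw [h] at hrel ⊢
    have h2 : (2 : F) = 0 := by
      by_contra h2
      have := hrel 2
      rw [map_ofNat, map_ofNat, show ((2 : ℤ).toNat) = 2 from rfl] at this
      exact h2 (by linear_combination -this)
    have := (CharP.cast_eq_zero_iff F p 2).1 (by exact_mod_cast h2)
    exact_mod_cast (Nat.prime_dvd_prime_iff_eq hp.out Nat.prime_two).1 this
  · rw [h] at hrel ⊢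
    simp only [show ((3 : ℤ).toNat) = 3 from rfl] at hrel
    by_cases h2 : (2 : F) = 0
    · exfalso
      have hrel2 := fun t : F => hrel t
      -- the field has two elements
      have h01 : ∀ t : F, t = 0 ∨ t = 1 := by
        intro t
        have h1 := hrel (t + 1)
        rw [map_add, map_add, map_one, map_one, hrel t] at h1
        have h3 : σ j t * (σ j t + 1) = 0 := by
          linear_combination (-(1 : F)) * h1 + (-(σ j t) ^ 2 - σ j t) * h2
        rcases mul_eq_zero.1 h3 with h4 | h4
        · exact Or.inl ((map_eq_zero_iff _ (σ j).injective).1 h4)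
        · refine Or.inr ((σ j).injective ?_)
          rw [map_one]
          linear_combination h4 - h2
      haveI : CharP F 2 := by
        have := (CharP.cast_eq_zero_iff F p 2).1 (by exact_mod_cast h2)
        obtain rfl := (Nat.prime_dvd_prime_iff_eq hp.out Nat.prime_two).1 this
        infer_instance
      obtain rfl := eq_g2_of_bonds hlist h
      obtain ⟨e0, e1, -, hrk, -⟩ := g2_tables
      have hi0 : i.val = 0 := by
        have := g2_short i i.isLt
        rw [hLi] at this
        have hlt' := i.isLt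
        simp at this
        omega
      have hj1 : j.val = 1 := by
        have := g2_short j j.isLt
        rw [hLj] at this
        simpa using this.symm
      have hπi : (π i).val = 1 := by
        have := g2_short _ (π i).isLt
        rw [hi] at this
        simpa using this.symm
      have hπj : (π j).val = 0 := by
        have h1 : π j ≠ π i := fun e => hij (π.injective e).symm
        have := (π j).isLt
        have : (π j).val ≠ 1 := fun e => h1 (Fin.ext (e.trans hπi.symm))
        omega
      refine g2_no_swap ψ.toMonoidHom ψ.injective ?_ ?_ ?_ ?_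
      · have := (hψ i 1).1; rwa [map_one, hi0, hπi] at this
      · have := (hψ i 1).2; rwa [map_one, hi0, hπi] at this
      · have := (hψ j 1).1; rwa [map_one, hj1, hπj] at this
      · have := (hψ j 1).2; rwa [map_one, hj1, hπj] at this
    · have := hrel 2
      rw [map_ofNat, map_ofNat] at this
      have h3 : (2 : F) * 3 = 0 := by linear_combination -this
      have := (CharP.cast_eq_zero_iff F p 3).1 (by exact_mod_cast (mul_eq_zero.1 h3).resolve_left h2)
      exact_mod_cast (Nat.prime_dvd_prime_iff_eq hp.out Nat.prime_three).1 this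

/-- Along an edge, one field automorphism determines the other. -/
theorem edge [Finite F] (τ : F ≃+* F) {i j : Fin D.rank} (hij : i ≠ j) (hb : D.bonds i j ≠ 0)
    (hτ : ∀ t, σ i t = τ t ^ D.graphExp p i (π i)) : ∀ t, σ j t = τ t ^ D.graphExp p j (π j) := by
  have hb' := (cartan_pair hG hij).2
  simp only [List.mem_cons, List.not_mem_nil, or_false] at hb'
  have hπij : π i ≠ π j := fun e => hij (π.injective e)
  have hbπ := hπ i j hij
  have hbs : D.bonds j i = D.bonds i j := mul_comm _ _
  have P1 := pairDiagOK hG i.isLt j.isLt (fun e => hij (Fin.ext e))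
  have P2 := pairDiagOK hG (π i).isLt (π j).isLt (fun e => hπij (Fin.ext e))
  have P3 := pairDiagOK hG j.isLt i.isLt (fun e => hij (Fin.ext e.symm))
  have P4 := pairDiagOK hG (π j).isLt (π i).isLt (fun e => hπij (Fin.ext e.symm))
  simp only [PairDiagOK, Bool.and_eq_true, decide_eq_true_eq, hbπ, hbs,
    show D.bonds (π j) (π i) = D.bonds i j by rw [← hbπ]; exact mul_comm _ _] at P1 P2 P3 P4
  have hinv : ∀ (k l : Fin D.rank), D.cartan k (D.simple l) = -1 → ∀ (n : ℕ),
      D.cartan (π k) (D.simple (π l)) = -(n : ℤ) → 0 < n → ∀ t, σ l t = σ k t ^ n := by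
    intro k l hA n hA' hn t
    by_cases ht : t = 0
    · simp [ht, zero_pow hn.ne']
    have := torus_relation hD hR hψ k l ht
    rw [hA, hA', zpow_neg_one, map_inv₀, _root_.zpow_neg, zpow_natCast, inv_inj] at this
    exact this
  rcases hb' with h | h | h | h
  · exact absurd h hb
  · obtain ⟨a1, l1⟩ := P1.1.2 h
    obtain ⟨a2, l2⟩ := P2.1.2 h
    intro t
    rw [hinv i j a1 1 (by rw [a2]; rfl) one_pos, pow_one, hτ]
    simp only [ChevalleyDatum.graphExp, l1, l2]
  all_goals
    obtain ⟨l1, a1⟩ := P1.2 (by omega)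
    obtain ⟨l2, a2⟩ := P2.2 (by omega)
    obtain ⟨l3, a3⟩ := P3.2 (by omega)
    obtain ⟨l4, a4⟩ := P4.2 (by omega)
    rcases Bool.eq_false_or_eq_true (D.isLong (D.simple j)) with hj | hj <;>
      rcases Bool.eq_false_or_eq_true (D.isLong (D.simple (π j))) with hk | hk <;>
      simp only [hj, hk, Bool.not_true, Bool.not_false] at l1 l2 <;>
      simp only [hj, hk, l1, l2, if_true, Bool.false_eq_true, if_false] at a1 a2 a3 a4
    · -- `i` short, image short
      intro t
      rw [← pow_one (σ j t), ← hinv j i a3 1 (by rw [a4]; rfl) one_pos, hτ]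
      simp [ChevalleyDatum.graphExp, hj, hk, l1, l2]
    · -- `i` short to long, `j` long to short
      have hrel := hinv j i a3 (D.bonds i j).toNat (by rw [a4, Int.toNat_of_nonneg (by omega)]) (by omega)
      have hp' := char_of_swap hD hR hG hψ hπ p hlist hij (by omega) l1 hj l2 hrel
      intro t
      have h1 := hτ t
      rw [hrel t, show (D.bonds i j).toNat = p by omega] at h1
      simp only [ChevalleyDatum.graphExp, hj, hk, l1, l2, Bool.not_false, Bool.and_self, if_true,
        Bool.not_true, Bool.and_false, Bool.false_eq_true, if_false, Bool.false_and] at h1 ⊢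
      rw [pow_one]
      exact frobenius_inj F p h1
    · -- `i` long to short, `j` short to long
      have hrel := hinv i j a1 (D.bonds i j).toNat (by rw [a2, Int.toNat_of_nonneg (by omega)]) (by omega)
      have hp' := char_of_swap hD hR hG hψ hπ p hlist (i := j) (j := i) hij.symm (by rw [hbs]; omega) hj l1 hk
        (fun t => by rw [hbs]; exact hrel t)
      rw [hbs] at hp'
      intro t
      rw [hrel t, hτ, show (D.bonds i j).toNat = p by omega]
      simp [ChevalleyDatum.graphExp, hj, hk, l1, l2]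
    · -- `i` long to long
      intro t
      rw [hinv i j a1 1 (by rw [a2]; rfl) one_pos, pow_one, hτ]
      simp [ChevalleyDatum.graphExp, hj, hk, l1, l2]

omit hR hG hπ hψ hlist in
theorem exists_root_field [Finite F] (σ₀ : F ≃+* F) (b : Bool) :
    ∃ τ : F ≃+* F, ∀ t, σ₀ t = τ t ^ (if b then p else 1) := by
  cases b
  · exact ⟨σ₀, fun t => by simp⟩
  · haveI : PerfectRing F p := PerfectRing.ofFiniteOfIsReduced p F
    exact ⟨σ₀.trans (frobeniusEquiv F p).symm, fun t => by simp⟩

theorem exists_field [Finite F] (hrank : 0 < D.rank) :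
    ∃ τ : F ≃+* F, ∀ i t, σ i t = τ t ^ D.graphExp p i (π i) := by
  have hlt : ord.getD 0 0 < D.rank := by
    have h := hG
    simp only [DiagOK, Bool.and_eq_true, decide_eq_true_eq, List.all_eq_true] at h
    rw [List.getD_eq_getElem _ _ (by omega)]
    exact h.1.2 _ (List.getElem_mem _)
  set i₀ : Fin D.rank := ⟨ord.getD 0 0, hlt⟩
  obtain ⟨τ, hτ⟩ := exists_root_field p (σ i₀) (D.isLong (D.simple (π i₀)) && !D.isLong (D.simple i₀))
  refine ⟨τ, fun i => node_induction hG (P := fun i => ∀ t, σ i t = τ t ^ D.graphExp p i (π i)) ?_ ?_ i⟩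
  · intro i hi
    obtain rfl : i = i₀ := Fin.ext hi
    exact hτ
  · exact fun i j hij hb h => edge hD hR hG hψ hπ p hlist τ hij hb h

end Cfsg.Agent.ChevAut

namespace Cfsg.Agent.ChevAut

open Cfsg.Lie Cfsg.Lie.ChevalleyDatum Cfsg.Agent.Chev Cfsg.Agent.ChevBN Cfsg.Agent.ChevSt

/-- Every automorphism is inner · diagonal · graph · field. -/
theorem aut_decomposition {F : Type*} [Field F] [Finite F] (D : ChevalleyDatum)
    (hlist : D ∈ [chevG2, chevB2, chevD4, chevF4, chevE6, chevE7, chevE8])
    (θ : D.group F ≃* D.group F) :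
    ∃ (x : D.group F) (d g f : D.group F ≃* D.group F),
      D.IsDiagonalAut d ∧ D.IsGraphAut g ∧ D.IsFieldAut f ∧ ∀ y, θ y = x * d (g (f y)) * x⁻¹ := by
  haveI := Fintype.ofFinite F
  obtain ⟨p, hp⟩ := CharP.exists F
  haveI := hp
  haveI : Fact p.Prime := ⟨CharP.char_is_prime F p⟩
  have hD := good_of_mem hlist
  obtain ⟨M, d, hR⟩ := exists_roots D hlist
  obtain ⟨ord, hG⟩ := diag_of_mem hlist
  obtain ⟨x, π, σ, c, hπ, hφ⟩ := exists_symmetry hD hR hG p θ
  obtain ⟨dg, hdg, hdga⟩ := exists_diagAut hD (chiOf_isRootCharacter hD hR fun i => c (π.symm i))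
  set φ := θ.trans (MulAut.conj x)
  set ψ := φ.trans dg.symm
  have hψ : ActsBy hD ψ π σ := by
    intro i t
    have hi := hD.simple_lt _ (π i).isLt
    refine ⟨dg.injective ?_, dg.injective ?_⟩
    · show dg (dg.symm (φ _)) = _
      rw [dg.apply_symm_apply, (hφ i t).1, hdga _ _ hi, chiOf_simple hD hR, Equiv.symm_apply_apply]
    · show dg (dg.symm (φ _)) = _
      rw [dg.apply_symm_apply, (hφ i t).2, hdga _ _ (hD.neg_lt _ hi),
        (chiOf_isRootCharacter hD hR _).1 _ hi, chiOf_simple hD hR, Equiv.symm_apply_apply]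
  have hrank : 0 < D.rank := (conn_of_mem hlist).1
  obtain ⟨τ, hτ⟩ := exists_field hD hR hG hψ hπ p hlist hrank
  obtain ⟨f, hf, hfa⟩ := exists_fieldAut hD τ
  refine ⟨x⁻¹, dg, f.symm.trans ψ, f, hdg, ?_, hf, fun y => ?_⟩
  · refine isGraphAut_of_apply hD hπ fun i t => ?_
    have hi := hD.simple_lt _ i.isLt
    have e : ∀ r < D.nroots, f.symm (gx hD r t) = gx hD r (τ.symm t) := fun r hr => by
      rw [MulEquiv.symm_apply_eq, hfa r _ hr, τ.apply_symm_apply]
    show ψ (f.symm _) = _ ∧ ψ (f.symm _) = _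
    rw [ringChar.eq F p, e _ hi, e _ (hD.neg_lt _ hi),
      (hψ i _).1, (hψ i _).2, hτ, τ.apply_symm_apply]
    exact ⟨rfl, rfl⟩
  · simp [ψ, φ, mul_assoc]

end Cfsg.Agent.ChevAut
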