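import Cfsg.Agent.Lib.Chev.Good
import Cfsg.Agent.Lib.ChevBN.Roots
import Cfsg.Prelude.Def_ChevAutomorphisms

/-!
# Diagram facts

`DiagOK D ord` : bonds, Cartan integers, root lengths, connectedness along `ord`, and the orders of
products of two fundamental reflections.
-/

set_option autoImplicit false

namespace Cfsg.Agent.ChevAut

open Cfsg.Lie Cfsg.Lie.ChevalleyDatum Cfsg.Agent.ChevBN

/-- Whether `(wᵢ wⱼ)^m = 1` when there are `b` bonds. -/
def crit (b : ℤ) (m : ℕ) : Bool :=
  if b = 0 then decide (m = 2 ∨ m = 4 ∨ m = 6) else if b = 1 then decide (m = 3 ∨ m = 6)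
  else if b = 2 then decide (m = 4) else decide (m = 6)

/-- `[i, j, i, j, ...]`. -/
def pairWord {α : Type*} (i j : α) : ℕ → List α
  | 0 => []
  | m + 1 => i :: j :: pairWord i j m

theorem map_pairWord {α β : Type*} (f : α → β) (i j : α) : ∀ m, (pairWord i j m).map f = pairWord (f i) (f j) m
  | 0 => rfl
  | m + 1 => by simp [pairWord, map_pairWord f i j m]

/-- The action of `wᵢ wⱼ` on the coefficients at `αᵢ, αⱼ`, for Cartan integers `a = Aᵢⱼ`, `b = Aⱼᵢ`. -/
def stepPair (a b : ℤ) (v : ℤ × ℤ) : ℤ × ℤ := (-v.1 - a * (-v.2 - b * v.1), -v.2 - b * v.1)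

/-- The Cartan integers at a pair of nodes. -/
def cartanPairs : List (ℤ × ℤ) := [(0, 0), (-1, -1), (-2, -1), (-1, -2), (-3, -1), (-1, -3)]

theorem crit_stepPair : ∀ p ∈ cartanPairs, ∀ m ∈ [2, 3, 4, 6],
    crit (p.1 * p.2) m = (decide (0 ≤ ((stepPair p.1 p.2)^[m] (1, 0)).1 ∧ 0 ≤ ((stepPair p.1 p.2)^[m] (1, 0)).2) &&
      decide (0 ≤ ((stepPair p.1 p.2)^[m] (0, 1)).1 ∧ 0 ≤ ((stepPair p.1 p.2)^[m] (0, 1)).2)) := by
  decide

theorem crit_inj : ∀ b ∈ [(0 : ℤ), 1, 2, 3], ∀ b' ∈ [(0 : ℤ), 1, 2, 3],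
    (∀ m ∈ [2, 3, 4, 6], crit b m = crit b' m) → b = b' := by
  decide

/-- The conditions on the pair of nodes `(i, j)`. -/
def PairDiagOK (D : ChevalleyDatum) (i j : ℕ) : Bool :=
  decide (D.bonds i j = 0 ∨ D.bonds i j = 1 ∨ D.bonds i j = 2 ∨ D.bonds i j = 3) &&
  decide (D.bonds i j = 0 → D.cartan i (D.simple j) = 0) &&
  decide (D.bonds i j = 1 → D.cartan i (D.simple j) = -1 ∧ D.isLong (D.simple i) = D.isLong (D.simple j)) &&
  decide (2 ≤ D.bonds i j → D.isLong (D.simple i) = !D.isLong (D.simple j) ∧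
    D.cartan i (D.simple j) = if D.isLong (D.simple j) then -D.bonds i j else -1)

/-- The diagram facts, with the nodes connected along `ord`. -/
def DiagOK (D : ChevalleyDatum) (ord : List ℕ) : Bool :=
  ((List.range D.rank).all fun i => (List.range D.rank).all fun j => decide (i = j) || PairDiagOK D i j) &&
  decide (ord.length = D.rank) && decide ord.Nodup && ord.all (fun i => decide (i < D.rank)) &&
  (List.range D.rank).all (fun m => decide (m = 0) ||
    (List.range m).any fun m' => decide (D.bonds (ord.getD m' 0) (ord.getD m 0) ≠ 0))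

variable {D : ChevalleyDatum} {ord : List ℕ} (h : DiagOK D ord = true)
include h

theorem pairDiagOK {i j : ℕ} (hi : i < D.rank) (hj : j < D.rank) (hij : i ≠ j) : PairDiagOK D i j = true := by
  simp only [DiagOK, Bool.and_eq_true, List.all_eq_true, List.mem_range, Bool.or_eq_true, decide_eq_true_eq] at h
  exact (h.1.1.1.1 i hi j hj).resolve_left hij

/-- Induction along the edges. -/
theorem node_induction {P : Fin D.rank → Prop} (hne : ∀ i : Fin D.rank, i.val = ord.getD 0 0 → P i)
    (hstep : ∀ i j : Fin D.rank, i ≠ j → D.bonds i j ≠ 0 → P i → P j) (i : Fin D.rank) : P i := by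
  simp only [DiagOK, Bool.and_eq_true, List.all_eq_true, List.mem_range, Bool.or_eq_true, decide_eq_true_eq,
    List.any_eq_true] at h
  obtain ⟨⟨⟨⟨-, hlen⟩, hnd⟩, hlt⟩, hconn⟩ := h
  have hg : ∀ m < D.rank, ord.getD m 0 < D.rank := fun m hm => by
    rw [List.getD_eq_getElem _ _ (by omega)]
    exact hlt _ (List.getElem_mem _)
  have key : ∀ m, ∀ hm : m < D.rank, P ⟨ord.getD m 0, hg m hm⟩ := by
    intro m
    induction m using Nat.strong_induction_on with
    | _ m ih =>
      intro hm
      rcases hconn m hm with rfl | ⟨m', hm', hb⟩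
      · exact hne _ rfl
      · refine hstep ⟨ord.getD m' 0, hg m' (by omega)⟩ _ ?_ hb (ih m' hm' (hm'.trans hm))
        intro e
        have e' : ord.getD m' 0 = ord.getD m 0 := congrArg Fin.val e
        rw [List.getD_eq_getElem _ _ (by omega), List.getD_eq_getElem _ _ (by omega),
          hnd.getElem_inj_iff] at e'
        omega
  have hinj : Function.Injective fun m : Fin D.rank => (⟨ord.getD m.val 0, hg m.val m.isLt⟩ : Fin D.rank) := by
    intro a b e
    have e' : ord.getD a.val 0 = ord.getD b.val 0 := congrArg Fin.val e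
    rw [List.getD_eq_getElem _ _ (by omega), List.getD_eq_getElem _ _ (by omega), hnd.getElem_inj_iff] at e'
    exact Fin.ext e'
  obtain ⟨m, rfl⟩ := Finite.surjective_of_injective hinj i
  exact key m.val m.isLt

end Cfsg.Agent.ChevAut
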