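import Cfsg.Agent.Lib.ChevAut.Symmetry
import Cfsg.Agent.Lib.ChevAut.Char
import Cfsg.Agent.Lib.ChevOrder.CardH

/-!
# Automorphisms permuting the fundamental root subgroups

* `Fix hD φ π` : `φ` carries `X_{±αᵢ}` to `X_{±α(π i)}`;
* `Fix.maps_pair` : then `U` and `V` are fixed;
* `mem_H_of_fix` : an element whose conjugation has this property lies in `H`, and then `π = 1`;
* `fix_unique` : the permutation attached to an automorphism is unique.
-/

set_option autoImplicit false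

namespace Cfsg.Agent.ChevAut

open Cfsg.Lie Cfsg.Lie.ChevalleyDatum Cfsg.Agent.Chev Cfsg.Agent.ChevBN Cfsg.Agent.ChevSt

variable {D : ChevalleyDatum} {F : Type*} [Field F]

/-- `φ` carries `X_{±αᵢ}` to `X_{±α(π i)}`. -/
def Fix (φ : D.group F ≃* D.group F) (π : Equiv.Perm (Fin D.rank)) : Prop :=
  ∀ i : Fin D.rank, Maps φ (D.rootSubgroup F (D.simple i)) (D.rootSubgroup F (D.simple (π i))) ∧
    Maps φ (D.rootSubgroup F (D.neg (D.simple i))) (D.rootSubgroup F (D.neg (D.simple (π i))))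

theorem Fix.refl : Fix (MulEquiv.refl (D.group F)) 1 := fun _ => ⟨Maps.refl _, Maps.refl _⟩

theorem Fix.trans {φ ψ : D.group F ≃* D.group F} {π ρ : Equiv.Perm (Fin D.rank)} (h : Fix φ π)
    (h' : Fix ψ ρ) : Fix (φ.trans ψ) (ρ * π) := fun i =>
  ⟨(h i).1.trans (h' (π i)).1, (h i).2.trans (h' (π i)).2⟩

theorem Fix.symm {φ : D.group F ≃* D.group F} {π : Equiv.Perm (Fin D.rank)} (h : Fix φ π) :
    Fix φ.symm π⁻¹ := fun i => by
  have := h (π⁻¹ i)
  rw [← Equiv.Perm.mul_apply, mul_inv_cancel, Equiv.Perm.one_apply] at this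
  exact ⟨this.1.symm, this.2.symm⟩

variable {M : List (List ℤ)} {d : ℤ} (hD : Good D) (hR : Roots D M d)
include hD

theorem rootSubgroup_le_group (r : ℕ) : D.rootSubgroup F r ≤ D.group F := fun x hx => by
  obtain ⟨t, rfl⟩ := (mem_rootSubgroup hD r).1 hx
  exact xg_mem_group hD r t

theorem maps_rootSubgroup {φ : D.group F ≃* D.group F} {r s : ℕ} (f : F → F) (hf : Function.Surjective f)
    (h : ∀ t, φ (gx hD r t) = gx hD s (f t)) : Maps φ (D.rootSubgroup F r) (D.rootSubgroup F s) := by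
  intro y
  constructor
  · intro hy
    obtain ⟨t, ht⟩ := (mem_rootSubgroup hD r).1 hy
    rw [show y = gx hD r t from Subtype.ext ht, h]
    exact xg_mem_rootSubgroup hD _ _
  · intro hy
    obtain ⟨u, hu⟩ := (mem_rootSubgroup hD s).1 hy
    obtain ⟨t, rfl⟩ := hf u
    have : φ y = φ (gx hD r t) := by rw [h]; exact Subtype.ext hu
    rw [φ.injective this]
    exact xg_mem_rootSubgroup hD _ _

/-- `Fix` from the action on root elements. -/
theorem fix_of_apply {φ : D.group F ≃* D.group F} {π : Equiv.Perm (Fin D.rank)}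
    {f g : Fin D.rank → F → F} (hf : ∀ i, Function.Surjective (f i)) (hg : ∀ i, Function.Surjective (g i))
    (h : ∀ (i : Fin D.rank) (t : F), φ (gx hD (D.simple i) t) = gx hD (D.simple (π i)) (f i t) ∧
      φ (gx hD (D.neg (D.simple i)) t) = gx hD (D.neg (D.simple (π i))) (g i t)) : Fix φ π := fun i =>
  ⟨maps_rootSubgroup hD (f i) (hf i) fun t => (h i t).1, maps_rootSubgroup hD (g i) (hg i) fun t => (h i t).2⟩

include hR

/-- Congruent words act alike on the roots. -/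
theorem ww_congr {l l' : List (Fin D.rank)} {k : GL D.Idx F} (hk : k ∈ D.diagonalSubgroup F)
    (e : (chevRGD hD hR F).nw l = k * (chevRGD hD hR F).nw l') (r : Fin D.nroots) :
    (chevRGD hD hR F).ww l r = (chevRGD hD hR F).ww l' r := by
  set R := chevRGD hD hR F
  have h1 := R.map_conj_U l r
  rw [e, R.map_conj_H_nw (show k ∈ R.H from hk)] at h1
  have h2 : xg hD F (R.ww l r).val 1 ∈ D.rootSubgroup F (R.ww l' r).val := by
    rw [show D.rootSubgroup F (R.ww l' r).val = R.U (R.ww l r) from h1]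
    exact xg_mem_rootSubgroup hD _ _
  obtain ⟨b, hb⟩ := (mem_rootSubgroup hD _).1 h2
  exact Fin.ext (ChevOrder.xg_eq_xg hD (R.ww l r).isLt (R.ww l' r).isLt one_ne_zero hb)

/-- Every positive root is an image of a fundamental one. -/
theorem exists_word {r : Fin D.nroots} (hr : D.IsPosRoot r) :
    ∃ (l : List (Fin D.rank)) (j : Fin D.rank),
      (chevRGD hD hR F).ww l ((chevRGD hD hR F).simple j) = r := by
  suffices h : ∀ q, ∀ hq : q < D.nroots, D.IsPosRoot q → ∃ (l : List (Fin D.rank)) (j : Fin D.rank),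
      (chevRGD hD hR F).ww l ((chevRGD hD hR F).simple j) = ⟨q, hq⟩ from h r.val r.isLt hr
  intro q hq hp
  refine (hR.pos_induction hD (P := fun q => ∀ hq : q < D.nroots, ∃ (l : List (Fin D.rank)) (j : Fin D.rank),
      (chevRGD hD hR F).ww l ((chevRGD hD hR F).simple j) = ⟨q, hq⟩) ?_ ?_ hq hp) hq
  · exact fun i hi _ => ⟨[], ⟨i, hi⟩, rfl⟩
  · intro i hi q hq' ih _
    obtain ⟨l, j, e⟩ := ih hq'
    refine ⟨⟨i, hi⟩ :: l, j, Fin.ext ?_⟩
    show wN D i ((chevRGD hD hR F).ww l ((chevRGD hD hR F).simple j)).val = _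
    rw [e]

section Finite

variable [Finite F]

theorem Fix.n_image {φ : D.group F ≃* D.group F} {π : Equiv.Perm (Fin D.rank)} (h : Fix φ π)
    (i : Fin D.rank) {a : F} (ha : a ≠ 0) : ∃ b, b ≠ 0 ∧ ∀ y : D.group F, (y : GL D.Idx F) = ng hD F (D.simple i) a →
      ((φ y : D.group F) : GL D.Idx F) = ng hD F (D.simple (π i)) b := by
  obtain ⟨σ, c, hσ⟩ := exists_field_of_maps hD hR (h i).1 (h i).2
  refine ⟨c * σ a, mul_ne_zero c.ne_zero ((map_ne_zero_iff _ σ.injective).2 ha), fun y hy => ?_⟩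
  rw [show y = gx hD (D.simple i) a * gx hD (D.neg (D.simple i)) (-a⁻¹) * gx hD (D.simple i) a from
    Subtype.ext hy, map_mul, map_mul, (hσ a).1, (hσ _).2, map_neg, map_inv₀]
  simp [gx, ng, mul_comm]

theorem Fix.maps_H {φ : D.group F ≃* D.group F} {π : Equiv.Perm (Fin D.rank)} (h : Fix φ π) {y : D.group F}
    (hy : (y : GL D.Idx F) ∈ D.diagonalSubgroup F) : ((φ y : D.group F) : GL D.Idx F) ∈ D.diagonalSubgroup F := by
  let K : Subgroup (GL D.Idx F) :=
    (((D.diagonalSubgroup F).comap (D.group F).subtype).comap φ.toMonoidHom).map (D.group F).subtype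
  have hK : ∀ z : D.group F, (z : GL D.Idx F) ∈ K ↔ ((φ z : D.group F) : GL D.Idx F) ∈ D.diagonalSubgroup F :=
    fun z => Subgroup.mem_map_iff_mem (D.group F).subtype_injective
  refine (hK y).1 ?_
  rw [← ChevOrder.torusHom_range hD] at hy
  obtain ⟨c, hc⟩ := hy
  rw [← hc]
  refine Subgroup.pi_mem_of_mulSingle_mem (H := K.comap (ChevOrder.torusHom D F)) c fun i => ?_
  have hr := hD.simple_lt _ i.isLt
  have e : ChevOrder.torusHom D F (Pi.mulSingle i (c i)) = hg hD F (D.simple i) (c i) := by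
    apply Units.ext
    rw [ChevOrder.coe_torusHom, coe_hg, hMat_eq_diag hD hr (c i).ne_zero]
    congr 1
    ext1 s
    rw [pairing_simple hD i.isLt, ChevOrder.chi, Finset.prod_eq_single i]
    · simp
    · intro j _ hj; simp [Pi.mulSingle_eq_of_ne hj]
    · simp
  show ChevOrder.torusHom D F (Pi.mulSingle i (c i)) ∈ K
  rw [e]
  let n₁ : D.group F :=
    gx hD (D.simple i) (c i : F) * gx hD (D.neg (D.simple i)) (-((c i : F))⁻¹) * gx hD (D.simple i) (c i : F)
  let n₂ : D.group F := gx hD (D.simple i) (-1) * gx hD (D.neg (D.simple i)) (-(-1)⁻¹) * gx hD (D.simple i) (-1)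
  refine (hK (n₁ * n₂)).2 ?_
  obtain ⟨a, ha, h₁⟩ := h.n_image hD hR i (c i).ne_zero
  obtain ⟨b, hb, h₂⟩ := h.n_image hD hR i (neg_ne_zero.2 (one_ne_zero : (1 : F) ≠ 0))
  rw [map_mul, Subgroup.coe_mul, h₁ n₁ rfl, h₂ n₂ rfl]
  exact ng_mul_mem hD _ (hD.simple_lt _ (π i).isLt) ha hb

theorem Fix.nw_image {φ : D.group F ≃* D.group F} {π : Equiv.Perm (Fin D.rank)} (h : Fix φ π)
    (l : List (Fin D.rank)) : ∀ y : D.group F, (y : GL D.Idx F) = (chevRGD hD hR F).nw l →
      ∃ k ∈ D.diagonalSubgroup F, ((φ y : D.group F) : GL D.Idx F) = k * (chevRGD hD hR F).nw (l.map π) := by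
  set R := chevRGD hD hR F with hRdef
  have hnw : ∀ l, R.nw l ∈ D.group F := fun l => chev_G hD hR (F := F) ▸ R.N_le_G (R.nw_mem_N l)
  induction l with
  | nil =>
    intro y hy
    refine ⟨1, one_mem _, ?_⟩
    rw [show y = 1 from Subtype.ext (by simpa using hy), map_one]
    simp
  | cons i l ih =>
    intro y hy
    obtain ⟨k, hk, e⟩ := ih ⟨R.nw l, hnw l⟩ rfl
    obtain ⟨b, hb, hn⟩ := h.n_image hD hR i (one_ne_zero : (1 : F) ≠ 0)
    let n₁ : D.group F := gx hD (D.simple i) 1 * gx hD (D.neg (D.simple i)) (-1⁻¹) * gx hD (D.simple i) 1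
    have hy' : y = n₁ * ⟨R.nw l, hnw l⟩ := Subtype.ext (by rw [hy, R.nw_cons]; rfl)
    have hbH : hg hD F (D.simple (π i)) b ∈ R.H :=
      Subgroup.subset_closure ⟨_, _, hD.simple_lt _ (π i).isLt, hb, coe_hg hD _ _⟩
    refine ⟨hg hD F (D.simple (π i)) b * (R.n (π i) * k * (R.n (π i))⁻¹),
      mul_mem hbH (R.n_conj_H _ _ hk), ?_⟩
    rw [hy', map_mul, Subgroup.coe_mul, e, hn n₁ rfl, RankOne.ng_eq_hg_mul hD, List.map_cons, R.nw_cons]
    show _ * ng hD F (D.simple (π i)) 1 * _ = _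
    rw [show ng hD F (D.simple (π i).val) 1 = R.n (π i) from rfl]
    group

theorem Fix.pos_image {φ : D.group F ≃* D.group F} {π : Equiv.Perm (Fin D.rank)} (h : Fix φ π)
    (n : ℕ) (l : List (Fin D.rank)) (j : Fin D.rank) (hn : l.length = n)
    (hpos : (chevRGD hD hR F).pos ((chevRGD hD hR F).ww l ((chevRGD hD hR F).simple j)))
    (hmin : ∀ l' : List (Fin D.rank), l'.length < l.length →
      (chevRGD hD hR F).ww l' ((chevRGD hD hR F).simple j) ≠
        (chevRGD hD hR F).ww l ((chevRGD hD hR F).simple j)) :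
    (chevRGD hD hR F).pos ((chevRGD hD hR F).ww (l.map π) ((chevRGD hD hR F).simple (π j))) := by
  set R := chevRGD hD hR F with hRdef
  have hnw : ∀ l, R.nw l ∈ D.group F := fun l => chev_G hD hR (F := F) ▸ R.N_le_G (R.nw_mem_N l)
  by_contra hneg
  obtain ⟨m, hm, k, hk, e⟩ := R.exists_shorter hneg
  obtain ⟨k₁, hk₁, e₁⟩ := h.nw_image hD hR (l ++ [j]) ⟨R.nw (l ++ [j]), hnw _⟩ rfl
  obtain ⟨k₂, hk₂, e₂⟩ := h.symm.nw_image hD hR m ⟨R.nw m, hnw _⟩ rfl
  rw [List.map_append, List.map_singleton, ← hRdef, e] at e₁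
  set m₀ := m.map (π⁻¹ : Equiv.Perm (Fin D.rank))
  have hkk : k₁ * k ∈ D.group F := borel_le_group hD hR (Subgroup.mem_sup_right (mul_mem hk₁ hk))
  have e₃ : φ.symm (⟨k₁ * k, hkk⟩ * ⟨R.nw m, hnw m⟩) = ⟨R.nw (l ++ [j]), hnw _⟩ := by
    rw [MulEquiv.symm_apply_eq]
    apply Subtype.ext
    rw [e₁, Subgroup.coe_mul]
    exact mul_assoc _ _ _
  have hk₃ := h.symm.maps_H hD hR (y := ⟨k₁ * k, hkk⟩) (mul_mem hk₁ hk)
  have e₄ := congrArg (fun y : D.group F => (y : GL D.Idx F)) e₃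
  simp only [map_mul, Subgroup.coe_mul, e₂] at e₄
  rw [← mul_assoc] at e₄
  have hc := ww_congr hD hR (l := l ++ [j]) (l' := m₀) (mul_mem hk₃ hk₂) e₄.symm (R.simple j)
  rw [← hRdef, R.ww_append, R.ww_cons, R.ww_nil, R.w_simple, R.ww_neg] at hc
  have hneg' : ¬ R.pos (R.ww m₀ (R.simple j)) := by
    rw [← hc, R.pos_neg, not_not]
    exact hpos
  obtain ⟨m₁, hm₁, k', hk', e'⟩ := R.exists_shorter hneg'
  have hc' := ww_congr hD hR (l := m₀ ++ [j]) (l' := m₁) hk' e' (R.simple j)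
  rw [← hRdef, R.ww_append, R.ww_cons, R.ww_nil, R.w_simple, R.ww_neg, ← hc, R.neg_neg] at hc'
  exact hmin m₁ (by simp [m₀] at hm hm₁; omega) hc'.symm

theorem Fix.maps_root {φ : D.group F ≃* D.group F} {π : Equiv.Perm (Fin D.rank)} (h : Fix φ π)
    {r : Fin D.nroots} (hr : D.IsPosRoot r) :
    (∀ t, ((φ (gx hD r t) : D.group F) : GL D.Idx F) ∈ (chevRGD hD hR F).Upos) ∧
      ∀ t, ((φ (gx hD (D.neg r) t) : D.group F) : GL D.Idx F) ∈ (chevRGD hD hR F).Vneg := by
  classical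
  set R := chevRGD hD hR F with hRdef
  have hnw : ∀ l, R.nw l ∈ D.group F := fun l => chev_G hD hR (F := F) ▸ R.N_le_G (R.nw_mem_N l)
  have hex : ∃ n, ∃ (l : List (Fin D.rank)) (j : Fin D.rank), l.length = n ∧ R.ww l (R.simple j) = r := by
    obtain ⟨l, j, e⟩ := exists_word hD hR (F := F) hr
    exact ⟨_, l, j, rfl, e⟩
  obtain ⟨l, j, hlen, e⟩ := Nat.find_spec hex
  have hpos := h.pos_image hD hR _ l j rfl (e.symm ▸ hr : R.pos _) fun l' hl' e' =>
    Nat.find_min hex (hlen ▸ hl') ⟨l', j, rfl, e'.trans e⟩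
  obtain ⟨k, hk, ek⟩ := h.nw_image hD hR l ⟨R.nw l, hnw l⟩ rfl
  have key : ∀ (s : Fin D.nroots) (s' : Fin D.nroots), R.ww l s = s' →
      ∀ (q : Fin D.nroots), (∀ z : D.group F, (z : GL D.Idx F) ∈ R.U s → ((φ z : D.group F) : GL D.Idx F) ∈ R.U q) →
      ∀ t, ((φ (gx hD s'.val t) : D.group F) : GL D.Idx F) ∈ R.U (R.ww (l.map π) q) := by
    intro s s' hs q hq t
    have hx : (R.nw l)⁻¹ * xg hD F s'.val t * R.nw l ∈ R.U s := by
      rw [← RGD.RootData.mem_map_conj, R.map_conj_U, hs]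
      exact xg_mem_rootSubgroup hD _ _
    let z : D.group F := ⟨(R.nw l)⁻¹ * xg hD F s'.val t * R.nw l,
      mul_mem (mul_mem (inv_mem (hnw l)) (xg_mem_group hD _ _)) (hnw l)⟩
    have e' : gx hD s'.val t = ⟨R.nw l, hnw l⟩ * z * (⟨R.nw l, hnw l⟩ : D.group F)⁻¹ :=
      Subtype.ext (by simp [z, gx, mul_assoc])
    rw [e', map_mul, map_mul, map_inv, Subgroup.coe_mul, Subgroup.coe_mul, Subgroup.coe_inv, ek]
    exact R.conj_U_mem (R.map_conj_H_nw (show k ∈ R.H from hk) (l.map π) q) (hq z hx)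
  constructor
  · exact fun t => R.U_le_Upos hpos (key (R.simple j) r e (R.simple (π j)) (fun z hz => ((h j).1 z).1 hz) t)
  · intro t
    refine R.U_le_Vneg ?_ (key (R.neg (R.simple j)) (R.neg r) (by rw [R.ww_neg, e])
      (R.neg (R.simple (π j))) (fun z hz => ((h j).2 z).1 hz) t)
    rw [R.ww_neg, R.pos_neg, not_not]
    exact hpos

theorem Fix.maps_pair {φ : D.group F ≃* D.group F} {π : Equiv.Perm (Fin D.rank)} (h : Fix φ π) :
    Maps φ (chevRGD hD hR F).Upos (chevRGD hD hR F).Upos ∧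
      Maps φ (chevRGD hD hR F).Vneg (chevRGD hD hR F).Vneg := by
  set R := chevRGD hD hR F with hRdef
  have key : ∀ (φ : D.group F ≃* D.group F) (π : Equiv.Perm (Fin D.rank)), Fix φ π → ∀ y : D.group F,
      ((y : GL D.Idx F) ∈ R.Upos → ((φ y : D.group F) : GL D.Idx F) ∈ R.Upos) ∧
      ((y : GL D.Idx F) ∈ R.Vneg → ((φ y : D.group F) : GL D.Idx F) ∈ R.Vneg) := by
    intro φ π h y
    have gen : ∀ (A : Set (Fin D.nroots)) (T : Subgroup (GL D.Idx F)),
        (∀ r ∈ A, ∀ t, ((φ (gx hD r.val t) : D.group F) : GL D.Idx F) ∈ T) →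
        ∀ y : D.group F, (y : GL D.Idx F) ∈ R.span A → ((φ y : D.group F) : GL D.Idx F) ∈ T := by
      intro A T hA y hy
      let K : Subgroup (GL D.Idx F) := ((T.comap (D.group F).subtype).comap φ.toMonoidHom).map (D.group F).subtype
      have hK : ∀ z : D.group F, (z : GL D.Idx F) ∈ K ↔ ((φ z : D.group F) : GL D.Idx F) ∈ T :=
        fun z => Subgroup.mem_map_iff_mem (D.group F).subtype_injective
      refine (hK y).1 (R.span_le (K := K) (fun r hr x hx => ?_) hy)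
      obtain ⟨t, rfl⟩ := (mem_rootSubgroup hD _).1 hx
      exact (hK (gx hD r.val t)).2 (hA r hr t)
    refine ⟨gen _ _ (fun r hr => (h.maps_root hD hR hr).1) y, gen _ _ (fun r hr => ?_) y⟩
    have := (h.maps_root hD hR (r := R.neg r) ((R.pos_neg r).2 hr)).2
    rwa [show D.neg (R.neg r).val = r.val from hD.neg_neg _ r.isLt] at this
  refine ⟨fun y => ⟨(key φ π h y).1, fun hy => ?_⟩, fun y => ⟨(key φ π h y).2, fun hy => ?_⟩⟩
  · simpa using (key φ.symm _ h.symm (φ y)).1 hy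
  · simpa using (key φ.symm _ h.symm (φ y)).2 hy

/-- An inner automorphism permuting the fundamental root subgroups comes from `H`. -/
theorem mem_H_of_fix {y : D.group F} {π : Equiv.Perm (Fin D.rank)} (h : Fix (MulAut.conj y) π) :
    (y : GL D.Idx F) ∈ D.diagonalSubgroup F ∧ π = 1 := by
  set R := chevRGD hD hR F with hRdef
  obtain ⟨hU, hV⟩ := h.maps_pair hD hR
  obtain ⟨l, hl⟩ := exists_long hD hR (F := F)
  have norm : ∀ (T : Subgroup (GL D.Idx F)), T ≤ D.group F → Maps (MulAut.conj y) T T →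
      (y : GL D.Idx F) ∈ Subgroup.normalizer (T : Set (GL D.Idx F)) := by
    intro T hT hm
    rw [Subgroup.mem_normalizer_iff]
    intro z
    constructor
    · exact fun hz => (hm ⟨z, hT hz⟩).1 hz
    · intro hz
      have hzG : z ∈ D.group F := by
        have := mul_mem (mul_mem (inv_mem y.2) (hT hz)) y.2
        simpa [mul_assoc] using this
      exact (hm ⟨z, hzG⟩).2 hz
  have hK := chev_G hD hR (F := F)
  have hB : (y : GL D.Idx F) ∈ R.B := by
    rw [← normalizer_Upos R]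
    exact Subgroup.mem_inf.2 ⟨norm _ (Upos_le_K R hl hK) hU, hK.symm ▸ y.2⟩
  have hH : (y : GL D.Idx F) ∈ R.H := by
    rw [← normalizer_Vneg_inf_B R hl]
    exact ⟨norm _ (Vneg_le_K R hl hK) hV, hB⟩
  refine ⟨hH, Equiv.ext fun i => ?_⟩
  have h1 := ((h i).1 (gx hD (D.simple i) 1)).1 (xg_mem_rootSubgroup hD _ _)
  obtain ⟨χ, -, hc⟩ := isToral_of_mem hD (show (y : GL D.Idx F) ∈ D.diagonalSubgroup F from hH)
  obtain ⟨b, hb⟩ := (mem_rootSubgroup hD _).1 h1
  simp only [MulAut.conj_apply, Subgroup.coe_mul, Subgroup.coe_inv, gx] at hb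
  rw [hc, mul_inv_cancel_right] at hb
  exact Fin.ext (hR.simple_inj hD i.isLt (π i).isLt
    (ChevOrder.xg_eq_xg hD (hD.simple_lt _ i.isLt) (hD.simple_lt _ (π i).isLt)
      (mul_ne_zero (χ _).ne_zero one_ne_zero) hb)).symm

theorem fix_unique {θ : D.group F ≃* D.group F} {x y : D.group F} {π ρ : Equiv.Perm (Fin D.rank)}
    (h : Fix (θ.trans (MulAut.conj x)) π) (h' : Fix (θ.trans (MulAut.conj y)) ρ) : π = ρ := by
  have e : (θ.trans (MulAut.conj x)).symm.trans (θ.trans (MulAut.conj y)) = MulAut.conj (y * x⁻¹) := by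
    refine MulEquiv.ext fun g => ?_
    simp [mul_assoc]
  have := (mem_H_of_fix hD hR (e ▸ h.symm.trans h')).2
  rwa [mul_inv_eq_one, eq_comm] at this

end Finite

end Cfsg.Agent.ChevAut
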