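import Mathlib.Algebra.Group.Subgroup.Pointwise
import Mathlib.GroupTheory.Sylow

/-!
# Images of subgroups under automorphisms of a subgroup

`Maps θ A B` : the automorphism `θ` of `K` carries `A ⊓ K` to `B ⊓ K`.
-/

set_option autoImplicit false

namespace Cfsg.Agent.ChevAut

variable {Γ : Type*} [Group Γ] {K : Subgroup Γ}

/-- `θ` carries `A` to `B`, both seen inside `K`. -/
def Maps (θ : K ≃* K) (A B : Subgroup Γ) : Prop :=
  ∀ g : K, (g : Γ) ∈ A ↔ ((θ g : K) : Γ) ∈ B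

theorem Maps.refl (A : Subgroup Γ) : Maps (MulEquiv.refl K) A A := fun _ => Iff.rfl

theorem Maps.trans {θ ψ : K ≃* K} {A B C : Subgroup Γ} (h : Maps θ A B) (h' : Maps ψ B C) :
    Maps (θ.trans ψ) A C := fun g => (h g).trans (h' (θ g))

theorem Maps.symm {θ : K ≃* K} {A B : Subgroup Γ} (h : Maps θ A B) : Maps θ.symm B A := fun g => by
  rw [h (θ.symm g), θ.apply_symm_apply]

theorem Maps.inf {θ : K ≃* K} {A B A' B' : Subgroup Γ} (h : Maps θ A B) (h' : Maps θ A' B') :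
    Maps θ (A ⊓ A') (B ⊓ B') := fun g => by
  rw [Subgroup.mem_inf, Subgroup.mem_inf, h g, h' g]

theorem Maps.mem {θ : K ≃* K} {A B : Subgroup Γ} (h : Maps θ A B) {x : Γ} (hx : x ∈ A) (hK : x ∈ K) :
    ((θ ⟨x, hK⟩ : K) : Γ) ∈ B := (h ⟨x, hK⟩).1 hx

theorem Maps.le {θ : K ≃* K} {A B A' B' : Subgroup Γ} (h : Maps θ A B) (h' : Maps θ A' B')
    (hB : B ≤ K) (hAA : A ≤ A') : B ≤ B' := fun x hx => by
  have h1 := (h (θ.symm ⟨x, hB hx⟩)).2 (by rw [θ.apply_symm_apply]; exact hx)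
  have h2 := (h' _).1 (hAA h1)
  rwa [θ.apply_symm_apply] at h2

theorem Maps.unique {θ : K ≃* K} {A B B' : Subgroup Γ} (h : Maps θ A B) (h' : Maps θ A B')
    (hB : B ≤ K) (hB' : B' ≤ K) : B = B' :=
  le_antisymm (h.le h' hB le_rfl) (h'.le h hB' le_rfl)

theorem Maps.comap {θ : K ≃* K} {A B : Subgroup Γ} (h : Maps θ A B) {x : Γ} (hx : x ∈ B) (hK : x ∈ K) :
    ((θ.symm ⟨x, hK⟩ : K) : Γ) ∈ A := h.symm.mem hx hK

theorem Maps.normalizer {θ : K ≃* K} {A B : Subgroup Γ} (h : Maps θ A B) (hA : A ≤ K) (hB : B ≤ K) :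
    Maps θ (Subgroup.normalizer (A : Set Γ)) (Subgroup.normalizer (B : Set Γ)) := by
  suffices H : ∀ (θ : K ≃* K) (A B : Subgroup Γ), Maps θ A B → A ≤ K → B ≤ K → ∀ g : K,
      (g : Γ) ∈ Subgroup.normalizer (A : Set Γ) → ((θ g : K) : Γ) ∈ Subgroup.normalizer (B : Set Γ) by
    intro g
    refine ⟨H θ A B h hA hB g, fun hg => ?_⟩
    have := H θ.symm B A h.symm hB hA (θ g) hg
    rwa [θ.symm_apply_apply] at this
  intro θ A B h hA hB g hg
  rw [Subgroup.mem_normalizer_iff] at hg ⊢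
  intro y
  have key : ∀ k : K, (k : Γ) ∈ B ↔ ((θ g : K) : Γ) * (k : Γ) * ((θ g : K) : Γ)⁻¹ ∈ B := by
    intro k
    obtain ⟨j, rfl⟩ := θ.surjective k
    have e : ((θ g : K) : Γ) * ((θ j : K) : Γ) * ((θ g : K) : Γ)⁻¹ = ((θ (g * j * g⁻¹) : K) : Γ) := by
      simp
    rw [e, ← h j, ← h (g * j * g⁻¹)]
    simpa using hg (j : Γ)
  constructor
  · exact fun hy => (key ⟨y, hB hy⟩).1 hy
  · intro hy
    have hyK : y ∈ K := by
      have h1 := mul_mem (mul_mem (inv_mem (θ g).2) (hB hy)) (θ g).2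
      simpa [mul_assoc] using h1
    exact (key ⟨y, hyK⟩).2 hy

theorem Maps.conj {x : K} {A B : Subgroup Γ}
    (h : ∀ y : Γ, y ∈ A ↔ (x : Γ) * y * (x : Γ)⁻¹ ∈ B) : Maps (MulAut.conj x) A B := fun g => by
  simpa using h (g : Γ)

theorem Maps.conj_map (x : K) (A : Subgroup Γ) :
    Maps (MulAut.conj x) A (A.map (MulAut.conj (x : Γ)).toMonoidHom) :=
  Maps.conj fun y => by
    constructor
    · exact fun hy => ⟨y, hy, by simp⟩
    · rintro ⟨z, hz, e⟩
      simp only [MulEquiv.coe_toMonoidHom, MulAut.conj_apply] at e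
      rw [← mul_left_cancel (mul_right_cancel e)]
      exact hz

theorem map_conj_le {g : Γ} (hg : g ∈ K) {A : Subgroup Γ} (hA : A ≤ K) :
    A.map (MulAut.conj g).toMonoidHom ≤ K := by
  rintro _ ⟨y, hy, rfl⟩
  exact mul_mem (mul_mem hg (hA hy)) (inv_mem hg)

theorem Maps.card_eq {θ : K ≃* K} {A B : Subgroup Γ} (h : Maps θ A B) (hA : A ≤ K) (hB : B ≤ K) :
    Nat.card A = Nat.card B :=
  Nat.card_congr
    { toFun := fun a => ⟨_, h.mem a.2 (hA a.2)⟩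
      invFun := fun b => ⟨_, h.comap b.2 (hB b.2)⟩
      left_inv := fun a => by simp
      right_inv := fun b => by simp }

end Cfsg.Agent.ChevAut
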