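import Cfsg.Agent.Lib.ChevAut.Fix
import Cfsg.Agent.Lib.ChevAut.Decomp
import Cfsg.Prelude.Def_KGroupFacts

/-!
# The outer automorphism group

* `diagHom`, `fieldHom` : diagonal and field automorphisms as homomorphisms;
* `permHom` : the permutation of the diagram; `permOut` on `Out`;
* `structure_out` : `Dbar` normal abelian, `Fbar` cyclic, `Dbar ⊔ Fbar` the kernel of `permOut`;
* `card_out` : `|Out| * |H| = (q - 1) ^ rank * |Aut F| * |image of permOut|`.
-/

set_option autoImplicit false

namespace Cfsg.Agent.ChevAut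

open Cfsg Cfsg.Lie Cfsg.Lie.ChevalleyDatum Cfsg.Agent.Chev Cfsg.Agent.ChevBN Cfsg.Agent.ChevSt

variable {D : ChevalleyDatum} {F : Type*} [Field F] {M : List (List ℤ)} {d : ℤ} (hD : Good D) (hR : Roots D M d)
include hD hR

/-- Diagonal automorphisms by their values at the fundamental roots. -/
noncomputable def diagHom : (Fin D.rank → Fˣ) →* MulAut (D.group F) :=
  MonoidHom.mk' (fun c => Classical.choose (exists_diagAut hD (chiOf_isRootCharacter hD hR c))) fun a b => by
    have ha := (Classical.choose_spec (exists_diagAut hD (chiOf_isRootCharacter hD hR a))).2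
    have hb := (Classical.choose_spec (exists_diagAut hD (chiOf_isRootCharacter hD hR b))).2
    have hab := (Classical.choose_spec (exists_diagAut hD (chiOf_isRootCharacter hD hR (a * b)))).2
    refine aut_ext hD hR fun i t => ?_
    have hi := hD.simple_lt _ i.isLt
    have hni := hD.neg_lt _ hi
    simp only [MulAut.mul_apply, hab _ _ hi, hab _ _ hni, ha _ _ hi, ha _ _ hni, hb _ _ hi, hb _ _ hni,
      (chiOf_isRootCharacter hD hR _).1 _ hi, chiOf_simple hD hR, Pi.mul_apply, mul_inv, Units.val_mul,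
      mul_assoc, and_self]

theorem diagHom_isDiag (c : Fin D.rank → Fˣ) : D.IsDiagonalAut (diagHom hD hR c) :=
  (Classical.choose_spec (exists_diagAut hD (chiOf_isRootCharacter hD hR c))).1

theorem diagHom_apply (c : Fin D.rank → Fˣ) {r : ℕ} (hr : r < D.nroots) (t : F) :
    diagHom hD hR c (gx hD r t) = gx hD r ((chiOf D M d c r : F) * t) :=
  (Classical.choose_spec (exists_diagAut hD (chiOf_isRootCharacter hD hR c))).2 r t hr

theorem diagHom_simple (c : Fin D.rank → Fˣ) (i : Fin D.rank) (t : F) :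
    diagHom hD hR c (gx hD (D.simple i) t) = gx hD (D.simple i) ((c i : F) * t) ∧
      diagHom hD hR c (gx hD (D.neg (D.simple i)) t) =
        gx hD (D.neg (D.simple i)) (((c i)⁻¹ : Fˣ) * t) := by
  have hi := hD.simple_lt _ i.isLt
  rw [diagHom_apply hD hR c hi, diagHom_apply hD hR c (hD.neg_lt _ hi),
    (chiOf_isRootCharacter hD hR _).1 _ hi, chiOf_simple hD hR]
  exact ⟨rfl, rfl⟩

theorem exists_diagHom_eq {φ : MulAut (D.group F)} (h : D.IsDiagonalAut φ) : ∃ c, diagHom hD hR c = φ := by
  obtain ⟨χ, hχ, hφ⟩ := h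
  refine ⟨fun i => χ (D.simple i), aut_ext hD hR fun i t => ?_⟩
  have hi := hD.simple_lt _ i.isLt
  rw [(diagHom_simple hD hR _ i t).1, (diagHom_simple hD hR _ i t).2, diagAut_apply hD hχ hφ hi,
    diagAut_apply hD hχ hφ (hD.neg_lt _ hi), hχ.1 _ hi]
  exact ⟨rfl, rfl⟩

/-- Field automorphisms. -/
noncomputable def fieldHom : (F ≃+* F) →* MulAut (D.group F) :=
  MonoidHom.mk' (fun σ => Classical.choose (exists_fieldAut hD σ)) fun a b => by
    have ha := (Classical.choose_spec (exists_fieldAut hD (D := D) a)).2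
    have hb := (Classical.choose_spec (exists_fieldAut hD (D := D) b)).2
    have hab := (Classical.choose_spec (exists_fieldAut hD (D := D) (a * b))).2
    refine aut_ext hD hR fun i t => ?_
    have hi := hD.simple_lt _ i.isLt
    have hni := hD.neg_lt _ hi
    rw [MulAut.mul_apply, MulAut.mul_apply, hab _ _ hi, hab _ _ hni, hb _ _ hi, hb _ _ hni, ha _ _ hi, ha _ _ hni]
    exact ⟨rfl, rfl⟩

theorem fieldHom_isField (σ : F ≃+* F) : D.IsFieldAut (fieldHom hD hR σ) :=
  (Classical.choose_spec (exists_fieldAut hD σ)).1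

theorem fieldHom_apply (σ : F ≃+* F) {r : ℕ} (hr : r < D.nroots) (t : F) :
    fieldHom hD hR σ (gx hD r t) = gx hD r (σ t) :=
  (Classical.choose_spec (exists_fieldAut hD σ)).2 r t hr

theorem exists_fieldHom_eq {φ : MulAut (D.group F)} (h : D.IsFieldAut φ) : ∃ σ, fieldHom hD hR σ = φ := by
  obtain ⟨σ, hσ⟩ := h
  refine ⟨σ, aut_ext hD hR fun i t => ?_⟩
  have hi := hD.simple_lt _ i.isLt
  rw [fieldHom_apply hD hR σ hi, fieldHom_apply hD hR σ (hD.neg_lt _ hi), fieldAut_apply hD hσ hi,
    fieldAut_apply hD hσ (hD.neg_lt _ hi)]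
  exact ⟨rfl, rfl⟩

theorem closure_diag :
    Subgroup.closure {φ : MulAut (D.group F) | D.IsDiagonalAut φ} = (diagHom hD hR).range := by
  refine le_antisymm ((Subgroup.closure_le _).2 fun φ h => exists_diagHom_eq hD hR h) ?_
  rintro _ ⟨c, rfl⟩
  exact Subgroup.subset_closure (diagHom_isDiag hD hR c)

theorem closure_field :
    Subgroup.closure {φ : MulAut (D.group F) | D.IsFieldAut φ} = (fieldHom hD hR).range := by
  refine le_antisymm ((Subgroup.closure_le _).2 fun φ h => exists_fieldHom_eq hD hR h) ?_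
  rintro _ ⟨c, rfl⟩
  exact Subgroup.subset_closure (fieldHom_isField hD hR c)

/-- The image of the diagonal automorphisms in `Out`. -/
noncomputable def diagOut : (Fin D.rank → Fˣ) →* Out (D.group F) :=
  (QuotientGroup.mk' (Inn (D.group F))).comp (diagHom hD hR)

/-- The image of the field automorphisms in `Out`. -/
noncomputable def fieldOut : (F ≃+* F) →* Out (D.group F) :=
  (QuotientGroup.mk' (Inn (D.group F))).comp (fieldHom hD hR)

theorem fix_diagHom (c : Fin D.rank → Fˣ) : Fix (diagHom (F := F) hD hR c) 1 :=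
  fix_of_apply hD (f := fun i t => (c i : F) * t) (g := fun i t => ((c i)⁻¹ : Fˣ) * t)
    (fun i t => ⟨((c i)⁻¹ : Fˣ) * t, by simp⟩) (fun i t => ⟨(c i : F) * t, by simp⟩)
    fun i t => diagHom_simple hD hR c i t

theorem fix_fieldHom (σ : F ≃+* F) : Fix (fieldHom (D := D) hD hR σ) 1 :=
  fix_of_apply hD (f := fun _ => σ) (g := fun _ => σ) (fun _ => σ.surjective) (fun _ => σ.surjective)
    fun i t => ⟨fieldHom_apply hD hR σ (hD.simple_lt _ i.isLt) t,
      fieldHom_apply hD hR σ (hD.neg_lt _ (hD.simple_lt _ i.isLt)) t⟩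

section Finite

variable [Finite F]

/-- Inner times diagonal times field is trivial only if the field part is. -/
theorem eq_one_of_inner {c : Fin D.rank → Fˣ} {σ : F ≃+* F} (hrank : 0 < D.rank)
    (h : diagHom hD hR c * fieldHom hD hR σ ∈ Inn (D.group F)) :
    σ = 1 ∧ ∃ y : D.group F, (y : GL D.Idx F) ∈ D.diagonalSubgroup F ∧ MulAut.conj y = diagHom hD hR c := by
  obtain ⟨y, hy⟩ := h
  have hfix : Fix (MulAut.conj y) 1 := by
    rw [hy]
    have h := (fix_fieldHom hD hR σ).trans (fix_diagHom hD hR c)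
    rw [mul_one] at h
    exact h
  have hH := (mem_H_of_fix hD hR hfix).1
  obtain ⟨χ, -, hc⟩ := isToral_of_mem hD hH
  have hact : ∀ (r : ℕ), r < D.nroots → ∀ t : F, MulAut.conj y (gx hD r t) = gx hD r ((χ r : F) * t) := by
    intro r _ t
    apply Subtype.ext
    simp only [MulAut.conj_apply, Subgroup.coe_mul, Subgroup.coe_inv, gx]
    rw [hc, mul_inv_cancel_right]
  have hi := hD.simple_lt _ hrank
  have key : ∀ t : F, (χ (D.simple 0) : F) * t = (c ⟨0, hrank⟩ : F) * σ t := by
    intro t
    apply gx_inj hD hi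
    have h1 := hact _ hi t
    rw [hy, MulAut.mul_apply, fieldHom_apply hD hR σ hi,
      (diagHom_simple hD hR c ⟨0, hrank⟩ _).1] at h1
    exact h1.symm
  have hσ : σ = 1 := by
    have h1 := key 1
    rw [map_one, mul_one, mul_one] at h1
    refine RingEquiv.ext fun t => ?_
    have h2 := key t
    rw [h1] at h2
    exact (mul_left_cancel₀ (Units.ne_zero _) h2).symm
  refine ⟨hσ, y, hH, ?_⟩
  rw [hy, hσ, map_one, mul_one]

theorem diagOut_eq_one_iff (hrank : 0 < D.rank) (c : Fin D.rank → Fˣ) :
    diagOut (F := F) hD hR c = 1 ↔ ∃ a : Fin D.rank → Fˣ, c = fun i => ChevOrder.chi a (D.simple i.val) := by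
  have hconj : ∀ (a : Fin D.rank → Fˣ) (hy : ChevOrder.torusHom D F a ∈ D.group F),
      MulAut.conj (⟨_, hy⟩ : D.group F) = diagHom hD hR fun i => ChevOrder.chi a (D.simple i.val) := by
    intro a hy
    obtain ⟨χ, hχ, hc⟩ := isToral_of_mem hD (F := F)
      (show ChevOrder.torusHom D F a ∈ D.diagonalSubgroup F by rw [← ChevOrder.torusHom_range hD]; exact ⟨a, rfl⟩)
    have hval : ∀ r < D.nroots, χ r = ChevOrder.chi a r := fun r hr => by
      rw [ChevOrder.coe_torusHom] at hχ
      have := congrFun (congrFun hχ (Sum.inr ⟨r, hr⟩)) (Sum.inr ⟨r, hr⟩)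
      simp only [ChevBN.dg, Matrix.diagonal_apply_eq, Sum.elim_inr] at this
      exact (Units.ext this).symm
    refine aut_ext hD hR fun i t => ?_
    have hi := hD.simple_lt _ i.isLt
    have hn : ChevOrder.chi a (D.neg (D.simple i.val)) = (ChevOrder.chi a (D.simple i.val))⁻¹ := by
      simp only [ChevOrder.chi, ← Finset.prod_inv_distrib, ← _root_.zpow_neg]
      refine Finset.prod_congr rfl fun j _ => ?_
      rw [(isLin_cartan hD j.isLt).neg _ hi]
    rw [(diagHom_simple hD hR _ i t).1, (diagHom_simple hD hR _ i t).2, ← hn, ← hval _ hi,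
      ← hval _ (hD.neg_lt _ hi)]
    constructor <;> apply Subtype.ext <;>
      simp only [MulAut.conj_apply, Subgroup.coe_mul, Subgroup.coe_inv, gx] <;>
      rw [hc, mul_inv_cancel_right]
  have hTG : ∀ a, ChevOrder.torusHom D F a ∈ D.group F := fun a =>
    borel_le_group hD hR (Subgroup.mem_sup_right
      (show ChevOrder.torusHom D F a ∈ D.diagonalSubgroup F by rw [← ChevOrder.torusHom_range hD]; exact ⟨a, rfl⟩))
  constructor
  · intro h
    have h' : diagHom hD hR c * fieldHom hD hR 1 ∈ Inn (D.group F) := by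
      rw [map_one, mul_one]
      exact (QuotientGroup.eq_one_iff _).1 h
    obtain ⟨-, y, hy, e⟩ := eq_one_of_inner hD hR hrank h'
    rw [← ChevOrder.torusHom_range hD] at hy
    obtain ⟨a, ha⟩ := hy
    refine ⟨a, funext fun i => ?_⟩
    have hi := hD.simple_lt _ i.isLt
    have e' : MulAut.conj y = diagHom hD hR fun i => ChevOrder.chi a (D.simple i.val) := by
      rw [← hconj a (hTG a)]
      congr 1
      exact Subtype.ext ha.symm
    rw [e] at e'
    have h1 := (diagHom_simple hD hR c i 1).1
    rw [e', (diagHom_simple hD hR _ i 1).1] at h1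
    have := gx_inj hD hi h1
    rw [mul_one, mul_one] at this
    exact (Units.ext this).symm
  · rintro ⟨a, rfl⟩
    rw [diagOut, MonoidHom.comp_apply, ← hconj a (hTG a)]
    exact (QuotientGroup.eq_one_iff _).2 ⟨_, rfl⟩

/-- The characters of the diagonal subgroup at the fundamental roots. -/
def torusChar : (Fin D.rank → Fˣ) →* (Fin D.rank → Fˣ) :=
  MonoidHom.mk' (fun a i => ChevOrder.chi a (D.simple i.val)) fun a b => funext fun i =>
    ChevOrder.chi_mul a b _

theorem card_diagOut (hrank : 0 < D.rank) :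
    Nat.card (diagOut (F := F) hD hR).range * Nat.card (D.diagonalSubgroup F) =
      (Nat.card F - 1) ^ D.rank := by
  classical
  haveI := Fintype.ofFinite F
  have hker : (diagOut (F := F) hD hR).ker = (torusChar (F := F) (D := D)).range := by
    ext c
    rw [MonoidHom.mem_ker, diagOut_eq_one_iff hD hR hrank, MonoidHom.mem_range]
    exact exists_congr fun a => eq_comm
  have hH : Nat.card (torusChar (F := F) (D := D)).range = Nat.card (D.diagonalSubgroup F) := by
    rw [← ChevOrder.torusHom_range hD]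
    refine Nat.card_congr (((QuotientGroup.quotientKerEquivRange _).symm.trans
      (QuotientGroup.quotientMulEquivOfEq ?_)).trans (QuotientGroup.quotientKerEquivRange _)).toEquiv
    ext a
    rw [MonoidHom.mem_ker, MonoidHom.mem_ker]
    constructor
    · intro h
      apply Units.ext
      rw [ChevOrder.coe_torusHom, Units.val_one, ← ChevOrder.dg_one (D := D) (F := F), ChevBN.dg, ChevBN.dg]
      congr 1
      ext x
      rcases x with i | s
      · rfl
      · simp only [Sum.elim_inr]
        congr 1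
        refine char_ext hD hR (χ := ChevOrder.chi a) (ψ := fun _ => 1) ⟨?_, ?_⟩ isRootCharacter_one
          (fun i => congrFun h i) s.isLt
        · intro r hr
          simp only [ChevOrder.chi, ← Finset.prod_inv_distrib, ← _root_.zpow_neg]
          refine Finset.prod_congr rfl fun j _ => ?_
          rw [(isLin_cartan hD j.isLt).neg _ hr]
        · intro r s k hr hs hk
          simp only [ChevOrder.chi, ← Finset.prod_mul_distrib, ← _root_.zpow_add]
          refine Finset.prod_congr rfl fun j _ => ?_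
          rw [(isLin_cartan hD j.isLt).add r hr s hs k hk]
    · intro h
      funext i
      have h' := congrArg (fun g : GL D.Idx F => (g : Matrix D.Idx D.Idx F)
        (Sum.inr ⟨D.simple i.val, hD.simple_lt _ i.isLt⟩) (Sum.inr ⟨D.simple i.val, hD.simple_lt _ i.isLt⟩)) h
      simp only [ChevOrder.coe_torusHom, ChevBN.dg, Matrix.diagonal_apply_eq, Sum.elim_inr, Units.val_one,
        Matrix.one_apply_eq] at h'
      exact Units.ext h'
  rw [← hH, ← hker, ← Nat.card_congr (QuotientGroup.quotientKerEquivRange (diagOut (F := F) hD hR)).toEquiv,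
    ← Subgroup.card_eq_card_quotient_mul_card_subgroup, Nat.card_pi]
  simp [Fintype.card_units]

theorem fieldOut_injective (hrank : 0 < D.rank) : Function.Injective (fieldOut (F := F) hD hR) := by
  rw [injective_iff_map_eq_one]
  intro σ h
  refine (eq_one_of_inner hD hR (c := 1) hrank ?_).1
  rw [map_one, one_mul]
  exact (QuotientGroup.eq_one_iff _).1 h

theorem disjoint_diag_field (hrank : 0 < D.rank) :
    Disjoint (diagOut (F := F) hD hR).range (fieldOut (F := F) hD hR).range := by
  rw [Subgroup.disjoint_def]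
  rintro _ ⟨c, rfl⟩ ⟨σ, e⟩
  have h : diagOut (F := F) hD hR c * fieldOut hD hR σ⁻¹ = 1 := by rw [map_inv, e, mul_inv_cancel]
  have := (eq_one_of_inner hD hR hrank ((QuotientGroup.eq_one_iff _).1 h)).1
  rw [inv_eq_one] at this
  rw [← e, this, map_one]

/-- Conjugating a diagonal automorphism by an automorphism permuting the fundamental root elements. -/
theorem conj_diag {g : MulAut (D.group F)} {π : Equiv.Perm (Fin D.rank)} (f : Fin D.rank → F →* F)
    (hf : ∀ i, Function.Bijective (f i))
    (hg : ∀ (i : Fin D.rank) (t : F), g (gx hD (D.simple i) t) = gx hD (D.simple (π i)) (f i t) ∧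
      g (gx hD (D.neg (D.simple i)) t) = gx hD (D.neg (D.simple (π i))) (f i t))
    (c : Fin D.rank → Fˣ) : ∃ c', g * diagHom hD hR c * g⁻¹ = diagHom hD hR c' := by
  refine ⟨fun j => Units.map (f (π⁻¹ j)) (c (π⁻¹ j)), ?_⟩
  rw [mul_inv_eq_iff_eq_mul]
  refine aut_ext hD hR fun i t => ?_
  simp only [MulAut.mul_apply]
  rw [(diagHom_simple hD hR c i t).1, (diagHom_simple hD hR c i t).2, (hg i _).1, (hg i _).2, (hg i t).1,
    (hg i t).2, (diagHom_simple hD hR _ (π i) _).1, (diagHom_simple hD hR _ (π i) _).2, Equiv.Perm.coe_inv, Equiv.symm_apply_apply,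
    map_mul, map_mul, ← map_inv]
  exact ⟨rfl, rfl⟩

end Finite

section Structure

variable [Finite F] (hlist : D ∈ [chevG2, chevB2, chevD4, chevF4, chevE6, chevE7, chevE8])
include hlist

theorem exists_parts (θ : MulAut (D.group F)) :
    ∃ (x : D.group F) (c : Fin D.rank → Fˣ) (g : MulAut (D.group F)) (σ : F ≃+* F)
      (π : Equiv.Perm (Fin D.rank)), D.IsDiagramSymmetry π ∧
      (∀ (i : Fin D.rank) (t : F),
        g (gx hD (D.simple i) t) = gx hD (D.simple (π i)) (t ^ D.graphExp (ringChar F) i (π i)) ∧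
        g (gx hD (D.neg (D.simple i)) t) = gx hD (D.neg (D.simple (π i))) (t ^ D.graphExp (ringChar F) i (π i))) ∧
      θ = MulAut.conj x * diagHom hD hR c * g * fieldHom hD hR σ := by
  obtain ⟨x, dd, g, f, hd, hg, hf, hθ⟩ := aut_decomposition D hlist θ
  obtain ⟨c, rfl⟩ := exists_diagHom_eq hD hR hd
  obtain ⟨σ, rfl⟩ := exists_fieldHom_eq hD hR hf
  obtain ⟨π, hπ, hg'⟩ := hg
  exact ⟨x, c, g, σ, π, hπ, fun i t => graphAut_apply hD hg' i t, MulEquiv.ext fun y => hθ y⟩

omit hR hlist in
theorem bijective_pow (i j : ℕ) : Function.Bijective (powMonoidHom (D.graphExp (ringChar F) i j) : F →* F) := by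
  unfold ChevalleyDatum.graphExp
  split_ifs
  · haveI := ringChar.charP F
    haveI : Fact (ringChar F).Prime := ⟨CharP.char_is_prime F _⟩
    exact Finite.injective_iff_bijective.1 (frobenius_inj F (ringChar F))
  · exact ⟨fun a b h => by simpa using h, fun a => ⟨a, by simp⟩⟩

theorem exists_fix (θ : MulAut (D.group F)) :
    ∃ π, D.IsDiagramSymmetry π ∧ ∃ x, Fix (θ.trans (MulAut.conj x)) π := by
  obtain ⟨x, c, g, σ, π, hπ, hg, rfl⟩ := exists_parts hD hR hlist θ
  refine ⟨π, hπ, x⁻¹, ?_⟩
  have hfg : Fix g π := fix_of_apply hD (fun i => (bijective_pow hD i (π i)).2)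
    (fun i => (bijective_pow hD i (π i)).2) hg
  have h := ((fix_fieldHom hD hR σ).trans hfg).trans (fix_diagHom hD hR c)
  rw [one_mul, mul_one] at h
  convert h using 1
  refine MulEquiv.ext fun y => ?_
  simp [mul_assoc]

/-- The permutation of the diagram. -/
noncomputable def permHom : MulAut (D.group F) →* Equiv.Perm (Fin D.rank) :=
  MonoidHom.mk' (fun θ => Classical.choose (exists_fix hD hR hlist θ)) fun a b => by
    obtain ⟨-, x, hx⟩ := Classical.choose_spec (exists_fix hD hR hlist a)
    obtain ⟨-, y, hy⟩ := Classical.choose_spec (exists_fix hD hR hlist b)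
    obtain ⟨-, z, hz⟩ := Classical.choose_spec (exists_fix hD hR hlist (a * b))
    refine fix_unique hD hR hz (y := x * a y) ?_
    convert hy.trans hx using 1
    refine MulEquiv.ext fun g => ?_
    simp [mul_assoc]

theorem permHom_eq {θ : MulAut (D.group F)} {x : D.group F} {π : Equiv.Perm (Fin D.rank)}
    (h : Fix (θ.trans (MulAut.conj x)) π) : permHom hD hR hlist θ = π := by
  obtain ⟨-, y, hy⟩ := Classical.choose_spec (exists_fix hD hR hlist θ)
  exact fix_unique hD hR hy h

theorem permHom_symmetry (θ : MulAut (D.group F)) : D.IsDiagramSymmetry (permHom hD hR hlist θ) :=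
  (Classical.choose_spec (exists_fix hD hR hlist θ)).1

theorem permHom_of_fix {θ : MulAut (D.group F)} {π : Equiv.Perm (Fin D.rank)} (h : Fix θ π) :
    permHom hD hR hlist θ = π := by
  refine permHom_eq hD hR hlist (x := 1) ?_
  convert h using 1
  refine MulEquiv.ext fun g => ?_
  simp

theorem inn_le_ker : Inn (D.group F) ≤ (permHom hD hR hlist).ker := by
  rintro _ ⟨y, rfl⟩
  rw [MonoidHom.mem_ker]
  refine permHom_eq hD hR hlist (x := y⁻¹) ?_
  convert (Fix.refl (D := D) (F := F)) using 1
  refine MulEquiv.ext fun g => ?_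
  simp [mul_assoc]

/-- The permutation of the diagram on `Out`. -/
noncomputable def permOut : Out (D.group F) →* Equiv.Perm (Fin D.rank) :=
  QuotientGroup.lift _ (permHom hD hR hlist) (inn_le_ker hD hR hlist)

theorem permOut_mk (θ : MulAut (D.group F)) :
    permOut hD hR hlist (QuotientGroup.mk θ) = permHom hD hR hlist θ := rfl

theorem mem_range_permOut {θ : MulAut (D.group F)} {π : Equiv.Perm (Fin D.rank)} (h : Fix θ π) :
    π ∈ (permOut (F := F) hD hR hlist).range := ⟨QuotientGroup.mk θ, permHom_of_fix hD hR hlist h⟩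

theorem range_symmetry {π : Equiv.Perm (Fin D.rank)} (h : π ∈ (permOut (F := F) hD hR hlist).range) :
    D.IsDiagramSymmetry π := by
  obtain ⟨a, rfl⟩ := h
  induction a using QuotientGroup.induction_on with
  | H θ => exact permHom_symmetry hD hR hlist θ

theorem diagOut_normal : (diagOut (F := F) hD hR).range.Normal := by
  refine ⟨?_⟩
  rintro _ ⟨c, rfl⟩ a
  induction a using QuotientGroup.induction_on with
  | H θ =>
    obtain ⟨x, cd, g, σ, π, -, hg, rfl⟩ := exists_parts hD hR hlist θ
    obtain ⟨c₁, h₁⟩ := conj_diag hD hR (g := fieldHom hD hR σ) (π := 1) (fun _ => σ.toRingHom.toMonoidHom)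
      (fun _ => σ.bijective)
      (fun i t => ⟨fieldHom_apply hD hR σ (hD.simple_lt _ i.isLt) t,
        fieldHom_apply hD hR σ (hD.neg_lt _ (hD.simple_lt _ i.isLt)) t⟩) c
    obtain ⟨c₂, h₂⟩ := conj_diag hD hR (g := g) (π := π)
      (fun i => powMonoidHom (D.graphExp (ringChar F) i (π i))) (fun i => bijective_pow hD i (π i)) hg c₁
    refine ⟨cd * c₂ * cd⁻¹, ?_⟩
    have e : MulAut.conj x * diagHom hD hR cd * g * fieldHom hD hR σ * diagHom hD hR c *
        (MulAut.conj x * diagHom hD hR cd * g * fieldHom hD hR σ)⁻¹ =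
        MulAut.conj x * diagHom hD hR (cd * c₂ * cd⁻¹) * (MulAut.conj x)⁻¹ := by
      rw [map_mul, map_mul, map_inv, ← h₂, ← h₁]
      group
    have hx : QuotientGroup.mk' (Inn (D.group F)) (MulAut.conj x) = 1 :=
      (QuotientGroup.eq_one_iff _).2 ⟨x, rfl⟩
    show QuotientGroup.mk' (Inn (D.group F)) (diagHom hD hR (cd * c₂ * cd⁻¹)) =
      QuotientGroup.mk' (Inn (D.group F)) (MulAut.conj x * diagHom hD hR cd * g * fieldHom hD hR σ) *
        QuotientGroup.mk' (Inn (D.group F)) (diagHom hD hR c) *
        (QuotientGroup.mk' (Inn (D.group F)) (MulAut.conj x * diagHom hD hR cd * g * fieldHom hD hR σ))⁻¹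
    conv_rhs => rw [← map_inv, ← map_mul, ← map_mul, e, map_mul, map_mul, map_inv, hx, one_mul, inv_one, mul_one]

theorem ker_permOut :
    (permOut hD hR hlist).ker = (diagOut (F := F) hD hR).range ⊔ (fieldOut (F := F) hD hR).range := by
  refine le_antisymm (fun a ha => ?_) (sup_le ?_ ?_)
  · induction a using QuotientGroup.induction_on with
    | H θ =>
      obtain ⟨x, c, g, σ, π, -, hg, rfl⟩ := exists_parts hD hR hlist θ
      have hfg : Fix g π := fix_of_apply hD (fun i => (bijective_pow hD i (π i)).2)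
        (fun i => (bijective_pow hD i (π i)).2) hg
      have hx : permHom hD hR hlist (MulAut.conj x) = 1 := inn_le_ker hD hR hlist ⟨x, rfl⟩
      rw [MonoidHom.mem_ker, permOut_mk, map_mul, map_mul, map_mul, hx,
        permHom_of_fix hD hR hlist (fix_diagHom hD hR c), permHom_of_fix hD hR hlist hfg,
        permHom_of_fix hD hR hlist (fix_fieldHom hD hR σ), one_mul, one_mul, mul_one] at ha
      subst ha
      have hg1 : g = 1 := aut_ext hD hR fun i t => by
        have he : D.graphExp (ringChar F) i.val i.val = 1 := by simp [ChevalleyDatum.graphExp]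
        rw [(hg i t).1, (hg i t).2, Equiv.Perm.one_apply, he, pow_one]
        exact ⟨rfl, rfl⟩
      subst hg1
      rw [mul_one, show (QuotientGroup.mk (MulAut.conj x * diagHom hD hR c * fieldHom hD hR σ) :
          Out (D.group F)) = diagOut hD hR c * fieldOut hD hR σ from ?_]
      · exact Subgroup.mul_mem_sup ⟨c, rfl⟩ ⟨σ, rfl⟩
      · rw [QuotientGroup.mk_mul, QuotientGroup.mk_mul, (QuotientGroup.eq_one_iff (MulAut.conj x)).2 (MonoidHom.mem_range.2 ⟨x, rfl⟩),
          one_mul]
        rfl
  · rintro _ ⟨c, rfl⟩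
    exact permHom_of_fix hD hR hlist (fix_diagHom hD hR c)
  · rintro _ ⟨σ, rfl⟩
    exact permHom_of_fix hD hR hlist (fix_fieldHom hD hR σ)

theorem card_out :
    Nat.card (Out (D.group F)) * Nat.card (D.diagonalSubgroup F) =
      (Nat.card F - 1) ^ D.rank * Nat.card (F ≃+* F) * Nat.card (permOut (F := F) hD hR hlist).range := by
  have hrank : 0 < D.rank := (conn_of_mem hlist).1
  haveI := diagOut_normal (F := F) hD hR hlist
  set A := (diagOut (F := F) hD hR).range
  set B := (fieldOut (F := F) hD hR).range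
  have hdis := disjoint_diag_field (F := F) hD hR hrank
  have hsup : Nat.card (A ⊔ B : Subgroup _) = Nat.card A * Nat.card B := by
    have e : ((A ⊔ B : Subgroup (Out (D.group F))) : Set (Out (D.group F))) =
        Set.range fun p : A × B => (p.1 : Out (D.group F)) * (p.2 : Out (D.group F)) := by
      rw [Subgroup.normal_mul]
      ext z
      constructor
      · rintro ⟨a, ha, b, hb, rfl⟩; exact ⟨(⟨a, ha⟩, ⟨b, hb⟩), rfl⟩
      · rintro ⟨⟨a, b⟩, rfl⟩; exact ⟨a, a.2, b, b.2, rfl⟩
    rw [← SetLike.coe_sort_coe, Nat.card_congr (Equiv.setCongr e),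
      Nat.card_range_of_injective (Subgroup.mul_injective_of_disjoint hdis), Nat.card_prod]
  have hF : Nat.card B = Nat.card (F ≃+* F) :=
    (Nat.card_congr (MonoidHom.ofInjective (fieldOut_injective (F := F) hD hR hrank)).toEquiv).symm
  rw [Subgroup.card_eq_card_quotient_mul_card_subgroup (permOut (F := F) hD hR hlist).ker,
    Nat.card_congr (QuotientGroup.quotientKerEquivRange (permOut (F := F) hD hR hlist)).toEquiv,
    ker_permOut hD hR hlist, hsup, hF, ← card_diagOut (F := F) hD hR hrank]
  ring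

end Structure

end Cfsg.Agent.ChevAut
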