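import Cfsg.Agent.Lib.ChevAut.Diagram
import Cfsg.Agent.Lib.ChevOrder.GraphAut
import Cfsg.Agent.Lib.Chev.All

/-!
# The symmetries of the seven diagrams

* `symList` : the symmetries, found node by node;
* `card_le_symList`, and the tables.
-/

set_option autoImplicit false
set_option maxRecDepth 100000

namespace Cfsg.Agent.ChevAut

open Cfsg.Lie Cfsg.Lie.ChevalleyDatum

/-- The images of the first `k` nodes under the symmetries. -/
def symList (D : ChevalleyDatum) : ℕ → List (List ℕ)
  | 0 => [[]]
  | k + 1 => (symList D k).flatMap fun l =>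
      ((List.range D.rank).filter fun v => !l.contains v &&
        (List.range k).all fun m => D.bonds (l.getD m 0) v == D.bonds m k).map fun v => l ++ [v]

variable {D : ChevalleyDatum}

theorem prefix_mem_symList {π : Equiv.Perm (Fin D.rank)} (hπ : D.IsDiagramSymmetry π) :
    ∀ k, k ≤ D.rank → ((List.ofFn fun i => (π i).val).take k) ∈ symList D k := by
  intro k
  induction k with
  | zero => intro _; simp [symList]
  | succ k ih =>
    intro hk
    have hk' : k < D.rank := hk
    set L := List.ofFn fun i => (π i).val with hL
    have hlen : L.length = D.rank := by simp [hL]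
    have hget : ∀ m, ∀ h : m < D.rank, L.getD m 0 = (π ⟨m, h⟩).val := fun m h => by
      rw [List.getD_eq_getElem _ _ (by omega)]
      simp [hL]
    simp only [symList, List.mem_flatMap, List.mem_map, List.mem_filter, List.mem_range]
    refine ⟨L.take k, ih hk'.le, (π ⟨k, hk'⟩).val, ⟨(π _).isLt, ?_⟩, ?_⟩
    · simp only [Bool.and_eq_true, Bool.not_eq_true', List.all_eq_true, List.mem_range, beq_iff_eq,
        List.contains_eq_mem, decide_eq_false_iff_not]
      refine ⟨fun hmem => ?_, fun m hm => ?_⟩
      · obtain ⟨m, hm, e⟩ := List.mem_iff_getElem.1 hmem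
        have hm' : m < k := by simp at hm; omega
        have h2 : (π ⟨m, by omega⟩).val = (π ⟨k, hk'⟩).val := by simpa [hL] using e
        have := congrArg Fin.val (π.injective (Fin.ext h2))
        dsimp only at this
        omega
      · have hm' : m < D.rank := by omega
        have e : (L.take k).getD m 0 = L.getD m 0 := by
          simp [List.getD_eq_getElem?_getD, hm]
        rw [e, hget m hm']
        exact hπ ⟨m, hm'⟩ ⟨k, hk'⟩ (fun e => by have := congrArg Fin.val e; dsimp only at this; omega)
    · rw [List.take_add_one, List.getElem?_eq_getElem (by omega)]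
      simp [hL]

theorem mem_symList {π : Equiv.Perm (Fin D.rank)} (hπ : D.IsDiagramSymmetry π) :
    (List.ofFn fun i => (π i).val) ∈ symList D D.rank := by
  have h := prefix_mem_symList hπ D.rank le_rfl
  rwa [List.take_of_length_le (by simp)] at h

theorem card_le_symList {S : Set (Equiv.Perm (Fin D.rank))} (hS : ∀ π ∈ S, D.IsDiagramSymmetry π) :
    Nat.card S ≤ (symList D D.rank).length := by
  classical
  let f : S → (symList D D.rank).toFinset := fun π =>
    ⟨_, List.mem_toFinset.2 (mem_symList (hS π.1 π.2))⟩
  have hf : Function.Injective f := by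
    intro a b h
    have h' := List.ofFn_inj.1 (congrArg Subtype.val h)
    exact Subtype.ext (Equiv.ext fun i => Fin.ext (congrFun h' i))
  refine (Nat.card_le_card_of_injective f hf).trans ?_
  rw [Nat.card_eq_fintype_card, Fintype.card_coe]
  exact List.toFinset_card_le _

theorem symG2 : symList chevG2 chevG2.rank = [[0, 1], [1, 0]] := by decide +kernel
theorem symB2 : (symList chevB2 chevB2.rank).length = 2 := by decide +kernel
theorem symD4 : (symList chevD4 chevD4.rank).length = 6 := by decide +kernel
theorem symF4 : symList chevF4 chevF4.rank = [[0, 1, 2, 3], [3, 2, 1, 0]] := by decide +kernel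
theorem symE6 : (symList chevE6 chevE6.rank).length = 2 := by decide +kernel
theorem symE7 : (symList chevE7 chevE7.rank).length = 1 := by decide +kernel
theorem symE8 : (symList chevE8 chevE8.rank).length = 1 := by decide +kernel

theorem graphOK_D4_swap : ChevOrder.GraphOK chevD4 [0, 1, 3, 2]
    [0, 1, 3, 2, 4, 5, 6, 8, 7, 9, 11, 10, 13, 12, 14, 16, 15, 17, 18, 19, 21, 20, 22, 23]
    [1, 1, 1, 1, 1, 1, 1, 1, 1, 1, 1, 1, 1, 1, 1, 1, 1, 1, 1, 1, 1, 1, 1, 1] = true := by decide +kernel

end Cfsg.Agent.ChevAut
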