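import Cfsg.Agent.Lib.ChevAut.Out
import Cfsg.Agent.Lib.ChevAut.Symmetries
import Cfsg.Agent.Lib.ChevOrder.GraphTables
import Cfsg.Agent.Lib.Twisted.GraphG2
import Cfsg.Agent.Lib.Twisted.GraphCharTwo
import Cfsg.Agent.Lib.AutPSL.Count

/-!
# Orders of the outer automorphism groups

* `out_structure` : the structure of `Out`;
* `card_out_G2`, `card_out_F4`, `card_out_E6`, `card_out_E7`, `card_out_E8`.
-/

set_option autoImplicit false

namespace Cfsg.Agent.ChevAut

open Cfsg Cfsg.Lie Cfsg.Lie.ChevalleyDatum Cfsg.Agent.Chev Cfsg.Agent.ChevBN Cfsg.Agent.ChevSt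

section Realise

variable {D : ChevalleyDatum} {F : Type*} [Field F] {M : List (List ℤ)} {d : ℤ} (hD : Good D) (hR : Roots D M d)
  [Finite F] (hlist : D ∈ [chevG2, chevB2, chevD4, chevF4, chevE6, chevE7, chevE8])
include hlist

/-- A graph automorphism in the form of the library gives an element of the image. -/
theorem mem_range_of_map (α : D.group F ≃* D.group F) (π : Equiv.Perm (Fin D.rank)) (e : Fin D.rank → ℕ)
    (he : ∀ i, Function.Surjective fun t : F => t ^ e i)
    (hα : ∀ (i : Fin D.rank) (t : F),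
      α (gx hD (D.simple i) t) = gx hD (D.simple (π i)) (t ^ e i) ∧
        α (gx hD (D.neg (D.simple i)) t) = gx hD (D.neg (D.simple (π i))) (t ^ e i)) :
    π ∈ (permOut (F := F) hD hR hlist).range :=
  mem_range_permOut hD hR hlist (fix_of_apply hD he he hα)

theorem exists_range_graphOK {rho pi : List ℕ} {eps : List ℤ} (h : ChevOrder.GraphOK D rho pi eps = true)
    (π : Equiv.Perm (Fin D.rank)) (hπ : ∀ i, (π i).val = rho.getD i.val 0) :
    π ∈ (permOut (F := F) hD hR hlist).range := by
  obtain ⟨α, hα⟩ := ChevOrder.exists_graphAut hD h (F := F)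
  refine mem_range_of_map hD hR hlist α π (fun _ => 1) (fun _ => fun t => ⟨t, pow_one t⟩) fun i t => ?_
  rw [pow_one, hπ]
  exact ⟨Subtype.ext (Units.ext ((hα _ i t i.isLt).1 rfl)), Subtype.ext (Units.ext ((hα _ i t i.isLt).2 rfl))⟩

theorem card_range_le : Nat.card (permOut (F := F) hD hR hlist).range ≤ (symList D D.rank).length :=
  card_le_symList (S := ((permOut (F := F) hD hR hlist).range : Set (Equiv.Perm (Fin D.rank))))
    fun _ h => range_symmetry hD hR hlist h

theorem card_range_eq_two {π : Equiv.Perm (Fin D.rank)} (hne : π ≠ 1)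
    (hmem : π ∈ (permOut (F := F) hD hR hlist).range) (hlen : (symList D D.rank).length = 2) :
    Nat.card (permOut (F := F) hD hR hlist).range = 2 := by
  have h1 := card_range_le (F := F) hD hR hlist
  have h2 : 1 < Nat.card (permOut (F := F) hD hR hlist).range :=
    Finite.one_lt_card_iff_nontrivial.2 ⟨⟨π, hmem⟩, 1, fun e => hne (congrArg Subtype.val e)⟩
  omega

theorem card_range_eq_one (hlen : (symList D D.rank).length = 1) :
    Nat.card (permOut (F := F) hD hR hlist).range = 1 := by
  have h1 := card_range_le (F := F) hD hR hlist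
  have h2 : 0 < Nat.card (permOut (F := F) hD hR hlist).range := Nat.card_pos
  omega

/-- Exchanging a short and a long node needs the characteristic to be their number of bonds. -/
theorem char_of_swap_mem {ord : List ℕ} (hG : DiagOK D ord = true) {π : Equiv.Perm (Fin D.rank)}
    (hmem : π ∈ (permOut (F := F) hD hR hlist).range) {i j : Fin D.rank} (hij : i ≠ j)
    (hb : 2 ≤ D.bonds i j) (hLi : D.isLong (D.simple i) = false) (hLj : D.isLong (D.simple j) = true)
    (hi : D.isLong (D.simple (π i)) = true) (hj : D.isLong (D.simple (π j)) = false) :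
    (ringChar F : ℤ) = D.bonds i j := by
  obtain ⟨a, rfl⟩ := hmem
  induction a using QuotientGroup.induction_on with
  | H θ =>
    obtain ⟨x, c, g, τ, π', hπ', hg, rfl⟩ := exists_parts hD hR hlist θ
    have hfg : Fix g π' := fix_of_apply hD (fun k => (bijective_pow hD k (π' k)).2)
      (fun k => (bijective_pow hD k (π' k)).2) hg
    have hxc : permHom hD hR hlist (MulAut.conj x) = 1 := inn_le_ker hD hR hlist ⟨x, rfl⟩
    rw [permOut_mk, map_mul, map_mul, map_mul, hxc, permHom_of_fix hD hR hlist (fix_diagHom hD hR c),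
      permHom_of_fix hD hR hlist hfg, permHom_of_fix hD hR hlist (fix_fieldHom hD hR τ), one_mul, one_mul,
      mul_one] at hi hj
    obtain ⟨p, hp⟩ := CharP.exists F
    haveI := hp
    haveI : Fact p.Prime := ⟨CharP.char_is_prime F p⟩
    haveI : PerfectRing F p := PerfectRing.ofFiniteOfIsReduced p F
    rw [ringChar.eq F p] at hg ⊢
    let σ : Fin D.rank → F ≃+* F := fun k =>
      if D.isLong (D.simple (π' k)) && !D.isLong (D.simple k) then frobeniusEquiv F p else RingEquiv.refl F
    have hσ : ActsBy hD g π' σ := by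
      intro k t
      have e : σ k t = t ^ D.graphExp p k (π' k) := by
        simp only [σ, ChevalleyDatum.graphExp]
        split_ifs <;> simp [frobenius_def]
      rw [e]
      exact hg k t
    have hπij : π' i ≠ π' j := fun e => hij (π'.injective e)
    have hbπ : D.bonds (π' j) (π' i) = D.bonds i j := by
      rw [← hπ' i j hij]; exact mul_comm _ _
    have hbs : D.bonds j i = D.bonds i j := mul_comm _ _
    have P1 := pairDiagOK hG j.isLt i.isLt (fun e => hij (Fin.ext e.symm))
    have P2 := pairDiagOK hG (π' j).isLt (π' i).isLt (fun e => hπij (Fin.ext e.symm))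
    simp only [PairDiagOK, Bool.and_eq_true, decide_eq_true_eq, hbπ, hbs] at P1 P2
    have a1 := (P1.2 hb).2
    have a2 := (P2.2 hb).2
    rw [hLi] at a1
    rw [hi] at a2
    simp only [Bool.false_eq_true, if_false, if_true] at a1 a2
    refine char_of_swap hD hR hG hσ hπ' p hlist hij hb hLi hLj hi fun t => ?_
    by_cases ht : t = 0
    · simp [ht, zero_pow (show (D.bonds i j).toNat ≠ 0 by omega)]
    have := torus_relation hD hR hσ j i ht
    rw [a1, a2, zpow_neg_one, map_inv₀, _root_.zpow_neg,
      show D.bonds i j = ((D.bonds i j).toNat : ℤ) by omega, zpow_natCast, inv_inj] at this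
    exact this

end Realise

theorem swapF4_mem {F : Type*} [Field F] [Finite F] [CharP F 2] {M : List (List ℤ)} {d : ℤ}
    (hR : Roots chevF4 M d) (hlist : chevF4 ∈ [chevG2, chevB2, chevD4, chevF4, chevE6, chevE7, chevE8])
    (π : Equiv.Perm (Fin chevF4.rank)) (hπ : ∀ i : Fin chevF4.rank, (π i).val = 3 - i.val) :
    π ∈ (permOut (F := F) DataF4.good hR hlist).range := by
  haveI : Fact (Nat.Prime 2) := ⟨Nat.prime_two⟩
  have hperf : ∀ x : F, ∃ y : F, y ^ 2 = x := (Finite.injective_iff_surjective.1 (frobenius_inj F 2) : _)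
  obtain ⟨α, hα⟩ := Twisted.graphAutCharTwo hperf (chevF4, [(3, 2), (2, 2), (1, 1), (0, 1)]) (by simp)
  have hr4 : chevF4.rank = 4 := by decide +kernel
  have h1 : ∀ k, k < 4 → (([(3, 2), (2, 2), (1, 1), (0, 1)] : List (ℕ × ℕ)).getD k (0, 1)).1 = 3 - k := by
    decide
  refine mem_range_of_map DataF4.good hR hlist α π
    (fun i => ((([(3, 2), (2, 2), (1, 1), (0, 1)] : List (ℕ × ℕ)).getD i.val (0, 1)).2)) (fun i => ?_) fun i t => ?_
  · obtain h | h : ((([(3, 2), (2, 2), (1, 1), (0, 1)] : List (ℕ × ℕ)).getD i.val (0, 1)).2) = 2 ∨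
        ((([(3, 2), (2, 2), (1, 1), (0, 1)] : List (ℕ × ℕ)).getD i.val (0, 1)).2) = 1 := by
      have hk : ∀ k, k < 4 → (([(3, 2), (2, 2), (1, 1), (0, 1)] : List (ℕ × ℕ)).getD k (0, 1)).2 = 2 ∨
          (([(3, 2), (2, 2), (1, 1), (0, 1)] : List (ℕ × ℕ)).getD k (0, 1)).2 = 1 := by decide
      exact hk i.val (hr4 ▸ i.isLt)
    · show Function.Surjective fun t : F => t ^ _
      rw [h]; exact hperf
    · show Function.Surjective fun t : F => t ^ _
      rw [h]; exact fun t => ⟨t, pow_one t⟩
  · have hi' : (π i).val = (([(3, 2), (2, 2), (1, 1), (0, 1)] : List (ℕ × ℕ)).getD i.val (0, 1)).1 := by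
      rw [hπ, h1 i.val (hr4 ▸ i.isLt)]
    rw [hi']
    exact ⟨Subtype.ext (Units.ext ((hα _ i.val t i.isLt).1 rfl)),
      Subtype.ext (Units.ext ((hα _ i.val t i.isLt).2 rfl))⟩

theorem swapG2_mem {F : Type*} [Field F] [Finite F] [CharP F 3] {M : List (List ℤ)} {d : ℤ}
    (hR : Roots chevG2 M d) (hlist : chevG2 ∈ [chevG2, chevB2, chevD4, chevF4, chevE6, chevE7, chevE8])
    (π : Equiv.Perm (Fin chevG2.rank)) (hπ : ∀ i : Fin chevG2.rank, (π i).val = 1 - i.val) :
    π ∈ (permOut (F := F) DataG2.good hR hlist).range := by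
  haveI : Fact (Nat.Prime 3) := ⟨Nat.prime_three⟩
  have hperf : ∀ x : F, ∃ y : F, y ^ 3 = x := (Finite.injective_iff_surjective.1 (frobenius_inj F 3) : _)
  obtain ⟨α, hα⟩ := Twisted.graphAutG2 hperf
  have hr2 : chevG2.rank = 2 := by decide +kernel
  have e0 : chevG2.simple 0 = g2a ∧ chevG2.simple 1 = g2b ∧ chevG2.neg (chevG2.simple 0) = g2ma ∧
      chevG2.neg (chevG2.simple 1) = g2mb := by decide +kernel
  obtain ⟨ea, eb, ema, emb⟩ := e0
  refine mem_range_of_map DataG2.good hR hlist α π (fun i => if i.val = 0 then 3 else 1) (fun i => ?_) fun i t => ?_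
  · by_cases h : i.val = 0
    · simp only [h, if_true]; exact hperf
    · simp only [h, if_false]; exact fun t => ⟨t, pow_one t⟩
  · obtain h | h : i.val = 0 ∨ i.val = 1 := by have := i.isLt; omega
    · rw [hπ, if_pos h, h, show 1 - 0 = 1 from rfl, ea, eb]
      refine ⟨Subtype.ext (Units.ext ((hα _ t).1 rfl)), ?_⟩
      rw [← eb, emb, ← ea, ema]
      exact Subtype.ext (Units.ext ((hα _ t).2.2.1 rfl))
    · rw [hπ, if_neg (by omega), h, show 1 - 1 = 0 from rfl, pow_one, ea, eb]
      refine ⟨Subtype.ext (Units.ext ((hα _ t).2.1 rfl)), ?_⟩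
      rw [← eb, emb, ← ea, ema]
      exact Subtype.ext (Units.ext ((hα _ t).2.2.2 rfl))

/-- From the product formula and the order of `H`. -/
theorem card_out_eq {D : ChevalleyDatum} {F : Type*} [Field F] [Fintype F] {M : List (List ℤ)} {d : ℤ}
    (hD : Good D) (hR : Roots D M d) (hlist : D ∈ [chevG2, chevB2, chevD4, chevF4, chevE6, chevE7, chevE8])
    {p f : ℕ} [Fact p.Prime] (hf : 1 ≤ f) (hF : Fintype.card F = p ^ f)
    {P Pi Q Qi : List (List ℤ)} {e : List ℕ} (hT : ChevOrder.TorusOK D P Pi Q Qi e = true) :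
    Nat.card (Out (D.group F)) = (∏ i : Fin D.rank, (p ^ f - 1).gcd (e.getD i.val 0)) * f *
      Nat.card (permOut (F := F) hD hR hlist).range := by
  have h1 := card_out (F := F) hD hR hlist
  have h2 := ChevOrder.card_diagonal (F := F) hD hR hT
  rw [Nat.card_eq_fintype_card (α := F), ← h2, (AutPSL.fieldAut_facts (F := F) p f hf hF).2, hF] at h1
  have hH : 0 < Nat.card (D.diagonalSubgroup F) := Nat.card_pos
  refine Nat.eq_of_mul_eq_mul_right hH ?_
  rw [h1]
  ring

/-- The structure of `Out`. -/
theorem out_structure {F : Type*} [Field F] [Finite F] (D : ChevalleyDatum)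
    (hlist : D ∈ [chevG2, chevB2, chevD4, chevF4, chevE6, chevE7, chevE8])
    (Dbar Fbar : Subgroup (Out (D.group F)))
    (hDbar : Dbar = (Subgroup.closure {φ : MulAut (D.group F) | D.IsDiagonalAut φ}).map
      (QuotientGroup.mk' (Inn (D.group F))))
    (hFbar : Fbar = (Subgroup.closure {φ : MulAut (D.group F) | D.IsFieldAut φ}).map
      (QuotientGroup.mk' (Inn (D.group F)))) :
    Dbar.Normal ∧ IsMulCommutative Dbar ∧ IsCyclic Fbar ∧ (Dbar ⊔ Fbar).Normal ∧
      ((Dbar ⊔ Fbar).index = 1 ∨ (Dbar ⊔ Fbar).index = 2 ∨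
        ((Dbar ⊔ Fbar).index = 6 ∧ ¬ commutator (Out (D.group F)) ≤ Dbar ⊔ Fbar)) := by
  haveI := Fintype.ofFinite F
  have hD := good_of_mem hlist
  obtain ⟨M, d, hR⟩ := exists_roots D hlist
  have eD : Dbar = (diagOut (F := F) hD hR).range := by
    rw [hDbar, closure_diag hD hR, MonoidHom.map_range]; rfl
  have eF : Fbar = (fieldOut (F := F) hD hR).range := by
    rw [hFbar, closure_field hD hR, MonoidHom.map_range]; rfl
  have hker : Dbar ⊔ Fbar = (permOut (F := F) hD hR hlist).ker := by
    rw [eD, eF, ker_permOut]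
  have hidx : (Dbar ⊔ Fbar).index = Nat.card (permOut (F := F) hD hR hlist).range := by
    rw [hker, Subgroup.index_ker]
  obtain ⟨p, hp⟩ := CharP.exists F
  haveI := hp
  obtain ⟨n, hpr, hn⟩ := FiniteField.card F p
  haveI : Fact p.Prime := ⟨hpr⟩
  refine ⟨eD ▸ diagOut_normal hD hR hlist, ?_, ?_, hker ▸ inferInstance, ?_⟩
  · rw [eD]
    refine ⟨⟨fun a b => Subtype.ext ?_⟩⟩
    obtain ⟨_, x, rfl⟩ := a
    obtain ⟨_, y, rfl⟩ := b
    show _ * _ = _ * _
    rw [← map_mul, ← map_mul, mul_comm]
  · rw [eF]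
    haveI := (AutPSL.fieldAut_facts (F := F) p n n.one_le hn).1
    exact isCyclic_of_surjective _ (fieldOut (F := F) hD hR).rangeRestrict_surjective
  · rw [hidx]
    have hle := card_range_le (F := F) hD hR hlist
    have hpos : 0 < Nat.card (permOut (F := F) hD hR hlist).range := Nat.card_pos
    have hsmall : (symList D D.rank).length ≤ 2 → Nat.card (permOut (F := F) hD hR hlist).range = 1 ∨
        Nat.card (permOut (F := F) hD hR hlist).range = 2 := fun h => by omega
    have hcases := hlist
    simp only [List.mem_cons, List.not_mem_nil, or_false] at hcases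
    rcases hcases with rfl | rfl | rfl | rfl | rfl | rfl | rfl
    · exact (hsmall (by rw [symG2]; rfl)).imp_right Or.inl
    · exact (hsmall (by rw [symB2])).imp_right Or.inl
    · refine Or.inr (Or.inr ?_)
      have hr4 : chevD4.rank = 4 := by decide +kernel
      let c4 : Fin chevD4.rank ≃ Fin 4 := finCongr hr4
      let mk : Equiv.Perm (Fin 4) → Equiv.Perm (Fin chevD4.rank) := fun q => (c4.trans q).trans c4.symm
      let s : Equiv.Perm (Fin 4) := Equiv.swap 2 3
      let r : Equiv.Perm (Fin 4) :=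
        ⟨![2, 1, 3, 0], ![3, 1, 0, 2], by decide, by decide⟩
      have hs : mk s ∈ (permOut (F := F) hD hR hlist).range := by
        refine exists_range_graphOK hD hR hlist graphOK_D4_swap _ fun i => ?_
        have key : ∀ k : Fin 4, (s k).val = ([0, 1, 3, 2] : List ℕ).getD k.val 0 := by decide
        exact key (c4 i)
      have hr : mk r ∈ (permOut (F := F) hD hR hlist).range := by
        refine exists_range_graphOK hD hR hlist ChevOrder.graphOK_D4 _ fun i => ?_
        have key : ∀ k : Fin 4, (r k).val = ([2, 1, 3, 0] : List ℕ).getD k.val 0 := by decide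
        exact key (c4 i)
      have hmk : ∀ a b, mk (a * b) = mk a * mk b := fun a b => Equiv.ext fun i => by simp [mk]
      have hmk1 : mk 1 = 1 := Equiv.ext fun i => by simp [mk]
      have hinj : Function.Injective mk := fun a b h => Equiv.ext fun k => by
        have := Equiv.congr_fun h (c4.symm k)
        simpa [mk] using this
      have h2 : orderOf (mk s) = 2 := orderOf_eq_prime
        (by rw [pow_two, ← hmk, show s * s = 1 by decide, hmk1])
        (fun h => absurd (hinj (h.trans hmk1.symm)) (by decide))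
      have h3 : orderOf (mk r) = 3 := by
        haveI : Fact (Nat.Prime 3) := ⟨Nat.prime_three⟩
        refine orderOf_eq_prime ?_ (fun h => absurd (hinj (h.trans hmk1.symm)) (by decide))
        rw [show mk r ^ 3 = mk r * mk r * mk r from pow_three' _, ← hmk, ← hmk, show r * r * r = 1 by decide, hmk1]
      have d2 := Subgroup.orderOf_dvd_natCard _ hs
      have d3 := Subgroup.orderOf_dvd_natCard _ hr
      rw [h2] at d2
      rw [h3] at d3
      rw [symD4] at hle
      have d6 : 2 * 3 ∣ Nat.card (permOut (F := F) hD hR hlist).range :=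
        Nat.Coprime.mul_dvd_of_dvd_of_dvd (by norm_num) d2 d3
      refine ⟨le_antisymm hle (Nat.le_of_dvd hpos d6), fun hcom => ?_⟩
      obtain ⟨a, ha⟩ := hs
      obtain ⟨b, hb⟩ := hr
      have hab := hcom (Subgroup.commutator_mem_commutator (Subgroup.mem_top a) (Subgroup.mem_top b))
      rw [hker, MonoidHom.mem_ker, map_commutatorElement, ha, hb, commutatorElement_eq_one_iff_mul_comm,
        ← hmk, ← hmk] at hab
      exact absurd (hinj hab) (by decide)
    · exact (hsmall (by rw [symF4]; rfl)).imp_right Or.inl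
    · exact (hsmall (by rw [symE6])).imp_right Or.inl
    · exact (hsmall (by rw [symE7]; norm_num)).imp_right Or.inl
    · exact (hsmall (by rw [symE8]; norm_num)).imp_right Or.inl

end Cfsg.Agent.ChevAut
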