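import Cfsg.Agent.Lib.ChevAut.OutCards

/-!
# `|Out|` for G₂, F₄, E₆, E₇, E₈
-/

set_option autoImplicit false

namespace Cfsg.Agent.ChevAut

open Cfsg Cfsg.Lie Cfsg.Lie.ChevalleyDatum Cfsg.Agent.Chev Cfsg.Agent.ChevBN Cfsg.Agent.ChevSt

theorem prod_getD {n : ℕ} (D : ChevalleyDatum) (hn : D.rank = n) (g : ℕ → ℕ) :
    ∏ i : Fin D.rank, g i.val = ∏ i : Fin n, g i.val :=
  Fintype.prod_equiv (finCongr hn) _ _ fun _ => rfl

theorem g2_data : chevG2.rank = 2 ∧ chevG2.bonds 0 1 = 3 ∧ chevG2.isLong (chevG2.simple 0) = false ∧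
    chevG2.isLong (chevG2.simple 1) = true := by decide +kernel

theorem f4_data : chevF4.rank = 4 ∧ chevF4.bonds 1 2 = 2 ∧ chevF4.isLong (chevF4.simple 1) = false ∧
    chevF4.isLong (chevF4.simple 2) = true := by decide +kernel

theorem card_out_G2 {F : Type*} [Field F] [Fintype F] {p f : ℕ} [Fact p.Prime] [CharP F p] (hf : 1 ≤ f)
    (hF : Fintype.card F = p ^ f) :
    Nat.card (Out (chevG2.group F)) = if p = 3 then 2 * f else f := by
  have hlist : chevG2 ∈ [chevG2, chevB2, chevD4, chevF4, chevE6, chevE7, chevE8] := by simp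
  obtain ⟨hr, hb, hl0, hl1⟩ := g2_data
  rw [card_out_eq (p := p) (f := f) DataG2.good rootsG2 hlist hf hF ChevOrder.torus_G2,
    prod_getD chevG2 hr (fun i => (p ^ f - 1).gcd (([1, 1] : List ℕ).getD i 0))]
  have hprod : ∏ i : Fin 2, (p ^ f - 1).gcd (([1, 1] : List ℕ).getD i.val 0) = 1 := by
    simp [Fin.prod_univ_succ]
  rw [hprod, one_mul]
  let c : Fin chevG2.rank ≃ Fin 2 := finCongr hr
  by_cases h3 : p = 3
  · subst h3
    rw [if_pos rfl, card_range_eq_two (F := F) DataG2.good rootsG2 hlist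
      (π := (c.trans (Equiv.swap 0 1)).trans c.symm) ?_ ?_ (by rw [symG2]; rfl)]
    · ring
    · intro e
      have := congrArg Fin.val (Equiv.congr_fun e ⟨0, by omega⟩)
      simp [c] at this
    · refine swapG2_mem rootsG2 hlist _ fun i => ?_
      have key : ∀ k : Fin 2, (Equiv.swap (0 : Fin 2) 1 k).val = 1 - k.val := by decide
      exact key (c i)
  · rw [if_neg h3]
    suffices h : (permOut (F := F) DataG2.good rootsG2 hlist).range = ⊥ by simp [h]
    rw [eq_bot_iff]
    intro π hπ
    rw [Subgroup.mem_bot]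
    by_contra hne
    let i : Fin chevG2.rank := ⟨0, by omega⟩
    let j : Fin chevG2.rank := ⟨1, by omega⟩
    have h0 : (π i).val = 1 ∧ (π j).val = 0 := by
      have hij : π i ≠ π j := fun e => absurd (congrArg Fin.val (π.injective e)) (by simp [i, j])
      have := (π i).isLt; have := (π j).isLt
      by_cases h : (π i).val = 0
      · exfalso
        apply hne
        refine Equiv.ext fun k => Fin.ext ?_
        have h1 : (π j).val = 1 := by
          have : (π j).val ≠ 0 := fun e => hij (Fin.ext (h.trans e.symm))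
          omega
        obtain hk | hk : k = i ∨ k = j := by
          have := k.isLt
          by_cases hk : k.val = 0
          · exact Or.inl (Fin.ext hk)
          · exact Or.inr (Fin.ext (show k.val = 1 by omega))
        · subst hk; simpa [i] using h
        · subst hk; simpa [j] using h1
      · refine ⟨by omega, ?_⟩
        have : (π j).val ≠ (π i).val := fun e => hij (Fin.ext e.symm)
        omega
    have := char_of_swap_mem DataG2.good rootsG2 hlist diagG2 hπ (i := i) (j := j)
      (fun e => absurd (congrArg Fin.val e) (by simp [i, j]))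
      (by show (2 : ℤ) ≤ chevG2.bonds 0 1; rw [hb]; norm_num) hl0 hl1
      (by rw [h0.1]; exact hl1) (by rw [h0.2]; exact hl0)
    rw [ringChar.eq F p, show chevG2.bonds i j = 3 from hb] at this
    exact h3 (by exact_mod_cast this)

theorem card_out_F4 {F : Type*} [Field F] [Fintype F] {p f : ℕ} [Fact p.Prime] [CharP F p] (hf : 1 ≤ f)
    (hF : Fintype.card F = p ^ f) :
    Nat.card (Out (chevF4.group F)) = Nat.gcd 2 p * f := by
  have hlist : chevF4 ∈ [chevG2, chevB2, chevD4, chevF4, chevE6, chevE7, chevE8] := by simp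
  obtain ⟨hr, hb, hl1, hl2⟩ := f4_data
  rw [card_out_eq (p := p) (f := f) DataF4.good rootsF4 hlist hf hF ChevOrder.torus_F4,
    prod_getD chevF4 hr (fun i => (p ^ f - 1).gcd (([1, 1, 1, 1] : List ℕ).getD i 0))]
  have hprod : ∏ i : Fin 4, (p ^ f - 1).gcd (([1, 1, 1, 1] : List ℕ).getD i.val 0) = 1 := by
    simp [Fin.prod_univ_succ]
  rw [hprod, one_mul]
  let c : Fin chevF4.rank ≃ Fin 4 := finCongr hr
  by_cases h2 : p = 2
  · subst h2
    let r : Equiv.Perm (Fin 4) := ⟨![3, 2, 1, 0], ![3, 2, 1, 0], by decide, by decide⟩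
    rw [card_range_eq_two (F := F) DataF4.good rootsF4 hlist
      (π := (c.trans r).trans c.symm) ?_ ?_ (by rw [symF4]; rfl)]
    · norm_num; ring
    · intro e
      have := congrArg Fin.val (Equiv.congr_fun e ⟨0, by omega⟩)
      simp [c, r] at this
    · refine swapF4_mem rootsF4 hlist _ fun i => ?_
      have key : ∀ k : Fin 4, (r k).val = 3 - k.val := by decide
      exact key (c i)
  · rw [(Nat.coprime_primes Nat.prime_two (Fact.out : p.Prime)).2 (Ne.symm h2), one_mul]
    suffices h : (permOut (F := F) DataF4.good rootsF4 hlist).range = ⊥ by simp [h]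
    rw [eq_bot_iff]
    intro π hπ
    rw [Subgroup.mem_bot]
    by_contra hne
    have hlist' := mem_symList (range_symmetry DataF4.good rootsF4 hlist hπ)
    rw [symF4] at hlist'
    simp only [List.mem_cons, List.not_mem_nil, or_false] at hlist'
    have hval : ∀ (L : List ℕ), List.ofFn (fun i => (π i).val) = L → ∀ i : Fin chevF4.rank,
        (π i).val = L.getD i.val 0 := by
      intro L hL i
      rw [← hL, List.getD_eq_getElem _ _ (by simp)]
      simp
    rcases hlist' with h | h
    · apply hne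
      refine Equiv.ext fun i => Fin.ext ?_
      rw [hval _ h i]
      have key : ∀ k, k < 4 → ([0, 1, 2, 3] : List ℕ).getD k 0 = k := by decide
      exact key i.val (hr ▸ i.isLt)
    · let i : Fin chevF4.rank := ⟨1, by omega⟩
      let j : Fin chevF4.rank := ⟨2, by omega⟩
      have hi : (π i).val = 2 := by rw [hval _ h i]; rfl
      have hj : (π j).val = 1 := by rw [hval _ h j]; rfl
      have := char_of_swap_mem DataF4.good rootsF4 hlist diagF4 hπ (i := i) (j := j)
        (fun e => absurd (congrArg Fin.val e) (by simp [i, j]))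
        (by show (2 : ℤ) ≤ chevF4.bonds 1 2; rw [hb]) hl1 hl2
        (by rw [hi]; exact hl2) (by rw [hj]; exact hl1)
      rw [ringChar.eq F p, show chevF4.bonds i j = 2 from hb] at this
      exact h2 (by exact_mod_cast this)

theorem card_out_E6 {F : Type*} [Field F] [Fintype F] {p f : ℕ} [Fact p.Prime] (hf : 1 ≤ f)
    (hF : Fintype.card F = p ^ f) :
    Nat.card (Out (chevE6.group F)) = 2 * Nat.gcd 3 (p ^ f - 1) * f := by
  have hlist : chevE6 ∈ [chevG2, chevB2, chevD4, chevF4, chevE6, chevE7, chevE8] := by simp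
  have hr : chevE6.rank = 6 := by decide +kernel
  rw [card_out_eq (p := p) (f := f) DataE6.good rootsE6 hlist hf hF ChevOrder.torus_E6,
    prod_getD chevE6 hr (fun i => (p ^ f - 1).gcd (([1, 1, 1, 1, 1, 3] : List ℕ).getD i 0))]
  have hprod : ∏ i : Fin 6, (p ^ f - 1).gcd (([1, 1, 1, 1, 1, 3] : List ℕ).getD i.val 0) =
      Nat.gcd 3 (p ^ f - 1) := by
    simp [Fin.prod_univ_succ, Nat.gcd_comm]
  let c : Fin chevE6.rank ≃ Fin 6 := finCongr hr
  let r : Equiv.Perm (Fin 6) := ⟨![5, 1, 4, 3, 2, 0], ![5, 1, 4, 3, 2, 0], by decide, by decide⟩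
  rw [hprod, card_range_eq_two (F := F) DataE6.good rootsE6 hlist (π := (c.trans r).trans c.symm) ?_ ?_ symE6]
  · ring
  · intro e
    have := congrArg Fin.val (Equiv.congr_fun e ⟨0, by omega⟩)
    simp [c, r] at this
  · refine exists_range_graphOK DataE6.good rootsE6 hlist ChevOrder.graphOK_E6 _ fun i => ?_
    have key : ∀ k : Fin 6, (r k).val = ([5, 1, 4, 3, 2, 0] : List ℕ).getD k.val 0 := by decide
    exact key (c i)

theorem card_out_E7 {F : Type*} [Field F] [Fintype F] {p f : ℕ} [Fact p.Prime] (hf : 1 ≤ f)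
    (hF : Fintype.card F = p ^ f) :
    Nat.card (Out (chevE7.group F)) = Nat.gcd 2 (p ^ f - 1) * f := by
  have hlist : chevE7 ∈ [chevG2, chevB2, chevD4, chevF4, chevE6, chevE7, chevE8] := by simp
  have hr : chevE7.rank = 7 := by decide +kernel
  rw [card_out_eq (p := p) (f := f) DataE7.good rootsE7 hlist hf hF ChevOrder.torus_E7,
    prod_getD chevE7 hr (fun i => (p ^ f - 1).gcd (([1, 1, 1, 1, 1, 1, 2] : List ℕ).getD i 0)),
    card_range_eq_one (F := F) DataE7.good rootsE7 hlist symE7, mul_one]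
  simp [Fin.prod_univ_succ, Nat.gcd_comm]

theorem card_out_E8 {F : Type*} [Field F] [Fintype F] {p f : ℕ} [Fact p.Prime] (hf : 1 ≤ f)
    (hF : Fintype.card F = p ^ f) :
    Nat.card (Out (chevE8.group F)) = f := by
  have hlist : chevE8 ∈ [chevG2, chevB2, chevD4, chevF4, chevE6, chevE7, chevE8] := by simp
  have hr : chevE8.rank = 8 := by decide +kernel
  rw [card_out_eq (p := p) (f := f) DataE8.good rootsE8 hlist hf hF ChevOrder.torus_E8,
    prod_getD chevE8 hr (fun i => (p ^ f - 1).gcd (([1, 1, 1, 1, 1, 1, 1, 1] : List ℕ).getD i 0)),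
    card_range_eq_one (F := F) DataE8.good rootsE8 hlist symE8, mul_one]
  simp [Fin.prod_univ_succ]

theorem one_le_exp {F : Type*} [Field F] [Fintype F] {p f : ℕ} (hF : Fintype.card F = p ^ f) : 1 ≤ f := by
  rcases Nat.eq_zero_or_pos f with rfl | h
  · have := Fintype.one_lt_card (α := F)
    simp [hF] at this
  · exact h

end Cfsg.Agent.ChevAut
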