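import Cfsg.Agent.Lib.RGD.Core
import Cfsg.Agent.Lib.RGD.NormalForm
import Cfsg.Agent.Lib.BN.Parabolic
import Cfsg.Agent.Lib.ChevAut.Maps

/-!
# Automorphisms of groups with root group data

* `normalizer_Upos`, `normalizer_Vneg_inf_B`;
* `cell_inf_Vneg`;
* `exists_fix_pair` : after an inner automorphism `U` and `V` are fixed;
* `exists_perm_neg`, `exists_perm_pos` : the fundamental root subgroups are permuted.
-/

set_option autoImplicit false

namespace Cfsg.Agent.ChevAut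

open Cfsg.Agent.RGD

variable {Γ : Type*} [Group Γ] {Φ I : Type*} (R : RootData Γ Φ I)

theorem U_le_G (r : Φ) (l : List I) (hl : ∀ r, R.pos r → ¬ R.pos (R.ww l r)) : R.U r ≤ R.G := by
  by_cases hr : R.pos r
  · exact (R.U_le_Upos hr).trans (R.Upos_le_B.trans R.B_le_G)
  · refine (R.U_le_Vneg hr).trans ?_
    rw [← R.map_conj_long hl]
    exact map_conj_le (R.N_le_G (R.nw_mem_N l)) (R.Upos_le_B.trans R.B_le_G)

theorem eq_one_of_inf {r s : Φ} {x : Γ} (hr : R.pos r) (hs : ¬ R.pos s) (hxr : x ∈ R.U r)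
    (hxs : x ∈ R.U s) : x = 1 := by
  rw [← Subgroup.mem_bot, ← R.B_inf_V]
  exact ⟨R.Upos_le_B (R.U_le_Upos hr hxr), R.U_le_Vneg hs hxs⟩

theorem exists_n_mem {S : Subgroup Γ} (hB : R.B ≤ S) (hSG : S ≤ R.G) (hne : ¬ S ≤ R.B) :
    ∃ i, R.n i ∈ S := by
  by_contra h
  push Not at h
  apply hne
  have hM : R.bnPair.B ≤ S.subgroupOf R.G := fun x hx => hB hx
  have e := BN.eq_parabolic_of_le R.bnPair hM
  have hempty : R.bnPair.S ∩ (S.subgroupOf R.G : Set R.G) = ∅ := by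
    rw [Set.eq_empty_iff_forall_notMem]
    rintro _ ⟨⟨i, rfl⟩, hx⟩
    exact h i hx
  rw [hempty, Cfsg.BNPair.parabolic, Subgroup.closure_empty, sup_bot_eq] at e
  intro x hx
  have : (⟨x, hSG hx⟩ : R.G) ∈ S.subgroupOf R.G := hx
  rw [e] at this
  exact this

theorem n_not_mem_B (i : I) : R.n i ∉ R.B := by
  intro h
  refine R.not_U_le_B ((R.pos_neg (R.simple i)).not.2 (not_not.2 (R.pos_simple i))) ?_
  rw [← R.w_simple, ← R.map_conj_n]
  rintro _ ⟨y, hy, rfl⟩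
  exact mul_mem (mul_mem h (R.Upos_le_B (R.U_le_Upos (R.pos_simple i) hy))) (inv_mem h)

theorem B_le_normalizer : R.B ≤ Subgroup.normalizer (R.Upos : Set Γ) := by
  refine sup_le Subgroup.le_normalizer fun h hh => ?_
  rw [Subgroup.mem_normalizer_iff]
  intro y
  refine ⟨fun hy => R.H_conj_span _ hh _ hy, fun hy => ?_⟩
  have := R.H_conj_span _ (inv_mem hh) _ hy
  simpa [mul_assoc, RootData.Upos] using this

theorem normalizer_Upos : Subgroup.normalizer (R.Upos : Set Γ) ⊓ R.G = R.B := by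
  refine le_antisymm ?_ (le_inf (B_le_normalizer R) R.B_le_G)
  by_contra hne
  obtain ⟨i, hi⟩ := exists_n_mem R (le_inf (B_le_normalizer R) R.B_le_G) inf_le_right hne
  refine R.not_U_le_B ((R.pos_neg (R.simple i)).not.2 (not_not.2 (R.pos_simple i))) ?_
  rw [← R.w_simple, ← R.map_conj_n]
  rintro _ ⟨y, hy, rfl⟩
  exact R.Upos_le_B ((Subgroup.mem_normalizer_iff.1 hi.1 y).1 (R.U_le_Upos (R.pos_simple i) hy))

variable {l : List I} (hl : ∀ r, R.pos r → ¬ R.pos (R.ww l r))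
include hl

theorem conj_long_iff (x : Γ) : x ∈ R.Upos ↔ R.nw l * x * (R.nw l)⁻¹ ∈ R.Vneg := by
  rw [← R.map_conj_long hl, RootData.mem_map_conj]
  simp [mul_assoc]

theorem pos_ww_long {r : Φ} (hr : ¬ R.pos r) : R.pos (R.ww l r) := by
  have h := hl _ ((R.pos_neg r).2 hr)
  rwa [R.ww_neg, R.pos_neg, not_not] at h

theorem conj_long_back (x : Γ) : x ∈ R.Vneg ↔ R.nw l * x * (R.nw l)⁻¹ ∈ R.Upos := by
  have h : R.Vneg.map (MulAut.conj (R.nw l)).toMonoidHom = R.Upos := by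
    refine le_antisymm (Subgroup.map_le_iff_le_comap.2 (R.span_le fun r hr x hx => ?_))
      (R.span_le fun r hr => ?_)
    · exact R.U_le_Upos (pos_ww_long R hl hr) (R.conj_U_mem (R.map_conj_U l r) hx)
    · have hq : ¬ R.pos (R.ww l.reverse r) := fun hq => by
        have := hl _ hq
        rw [R.ww_ww_reverse] at this
        exact this hr
      have h := R.map_conj_U l (R.ww l.reverse r)
      rw [R.ww_ww_reverse] at h
      rw [← h]
      exact Subgroup.map_mono (R.U_le_Vneg hq)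
  rw [← h, RootData.mem_map_conj]
  simp [mul_assoc]

theorem normalizer_Vneg_inf_B : Subgroup.normalizer (R.Vneg : Set Γ) ⊓ R.B = R.H := by
  have hG : R.nw l ∈ R.G := R.N_le_G (R.nw_mem_N l)
  refine le_antisymm ?_ (le_inf ?_ R.H_le_B)
  · rintro g ⟨hN, hB⟩
    have h1 : (R.nw l)⁻¹ * g * R.nw l ∈ R.B := by
      rw [← normalizer_Upos R]
      refine Subgroup.mem_inf.2 ⟨?_, mul_mem (mul_mem (inv_mem hG) (R.B_le_G hB)) hG⟩
      show (R.nw l)⁻¹ * g * R.nw l ∈ Subgroup.normalizer (R.Upos : Set Γ)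
      rw [Subgroup.mem_normalizer_iff]
      intro y
      rw [conj_long_iff R hl, conj_long_iff R hl ((R.nw l)⁻¹ * g * R.nw l * y * _),
        Subgroup.mem_normalizer_iff.1 hN (R.nw l * y * (R.nw l)⁻¹)]
      apply iff_of_eq
      congr 1
      group
    obtain ⟨u, hu, h, hh, e⟩ := R.exists_B h1
    obtain ⟨u', hu', h', hh', e'⟩ := R.exists_B hB
    have hk : R.nw l * h * (R.nw l)⁻¹ ∈ R.H := R.nw_conj_H l hh
    have eg : g = R.nw l * u * (R.nw l)⁻¹ * (R.nw l * h * (R.nw l)⁻¹) := by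
      calc g = R.nw l * ((R.nw l)⁻¹ * g * R.nw l) * (R.nw l)⁻¹ := by group
        _ = _ := by rw [e]; group
    have hv : R.nw l * u * (R.nw l)⁻¹ = 1 := by
      rw [← Subgroup.mem_bot, ← R.B_inf_V]
      refine ⟨?_, (conj_long_iff R hl u).1 hu⟩
      show R.nw l * u * (R.nw l)⁻¹ ∈ R.B
      rw [show R.nw l * u * (R.nw l)⁻¹ = g * (R.nw l * h * (R.nw l)⁻¹)⁻¹ by rw [eg]; group]
      exact mul_mem hB (inv_mem (R.H_le_B hk))
    rw [eg, hv, one_mul]
    exact hk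
  · intro h hh
    rw [Subgroup.mem_normalizer_iff]
    intro y
    refine ⟨fun hy => R.H_conj_span _ hh _ hy, fun hy => ?_⟩
    have := R.H_conj_span _ (inv_mem hh) _ hy
    simpa [mul_assoc, RootData.Vneg] using this

theorem conj_long_trivial {r : List I} (htriv : ∀ x ∈ R.Upos, R.nw r * x * (R.nw r)⁻¹ ∈ R.Upos → x = 1)
    {s : Φ} (hs : R.pos s) : ¬ R.pos (R.ww r s) := by
  intro hp
  refine R.U_ne_bot s (eq_bot_iff.2 fun x hx => ?_)
  exact htriv x (R.U_le_Upos hs hx) (R.U_le_Upos hp (R.conj_U_mem (R.map_conj_U r s) hx))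

omit hl in
/-- The elements of the cell outside `B` are `b · n i · a`. -/
theorem cell_form {i : I} {g : Γ} (hg : g ∈ R.cellSubgroup i) (hB : g ∉ R.B) :
    ∃ b ∈ R.B, ∃ a ∈ R.U (R.simple i), g = b * R.n i * a := by
  rcases hg with hg | hg
  · exact absurd hg hB
  obtain ⟨c, hc, c', hc', rfl⟩ := DoubleCoset.mem_doubleCoset.1 hg
  obtain ⟨u, hu, h, hh, rfl⟩ := R.exists_B hc'
  obtain ⟨k, hk, a, ha, rfl⟩ := R.exists_Upos (i := i) hu
  refine ⟨c * (R.n i * k * (R.n i)⁻¹) * (R.n i * h * (R.n i)⁻¹),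
    mul_mem (mul_mem hc (R.Upos_le_B (R.Udel_le_Upos i (R.n_conj_Udel i k hk))))
      (R.H_le_B (R.n_conj_H i h hh)), h⁻¹ * a * h, R.conj_H_U' hh ha, by group⟩

theorem cell_inf_Vneg (i : I) : R.cellSubgroup i ⊓ R.Vneg = R.U (R.neg (R.simple i)) := by
  have hneg : ¬ R.pos (R.neg (R.simple i)) := fun h => (R.pos_neg _).1 h (R.pos_simple i)
  have hncell : R.n i ∈ R.cellSubgroup i :=
    Or.inr (DoubleCoset.mem_doubleCoset.2 ⟨1, one_mem R.B, 1, one_mem R.B, by group⟩)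
  have hBcell : R.B ≤ R.cellSubgroup i := fun x hx => Or.inl hx
  have hU : R.U (R.neg (R.simple i)) ≤ R.cellSubgroup i := by
    rw [← R.w_simple, ← R.map_conj_n]
    exact map_conj_le hncell ((R.U_le_Upos (R.pos_simple i)).trans (R.Upos_le_B.trans hBcell))
  refine le_antisymm ?_ (le_inf hU (R.U_le_Vneg hneg))
  rintro g ⟨hg, hgV⟩
  by_cases hB : g ∈ R.B
  · have : g = 1 := by rw [← Subgroup.mem_bot, ← R.B_inf_V]; exact ⟨hB, hgV⟩
    rw [this]; exact one_mem _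
  obtain ⟨b, hb, a, ha, rfl⟩ := cell_form R hg hB
  by_cases ha1 : a = 1
  · exfalso
    subst ha1
    rw [mul_one] at hgV hB
    obtain ⟨u, hu, e⟩ : ∃ u ∈ R.Upos, b * R.n i = R.nw l * u * (R.nw l)⁻¹ := by
      refine ⟨(R.nw l)⁻¹ * (b * R.n i) * R.nw l, ?_, by group⟩
      rw [conj_long_iff R hl]
      simpa [mul_assoc] using hgV
    have h := R.mem_H_of_eq (n := R.nw l) (n' := R.n i * R.nw l) (b₁ := 1) (b₂ := u) (b₁' := b)
      (b₂' := 1) (R.nw_mem_N l) (mul_mem (R.n_mem_N i) (R.nw_mem_N l)) (one_mem _)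
      (R.Upos_le_B hu) hb (one_mem _) (by rw [one_mul, mul_one, ← mul_assoc b, e]; group)
    have h2 := R.nw_conj_H l h
    refine n_not_mem_B R i (R.H_le_B ?_)
    rwa [show R.nw l * ((R.nw l)⁻¹ * (R.n i * R.nw l)) * (R.nw l)⁻¹ = R.n i by group] at h2
  have hy : R.n i * a * (R.n i)⁻¹ ∈ R.U (R.neg (R.simple i)) := by
    rw [← R.w_simple]
    exact R.n_conj_U i _ a ha
  obtain ⟨a', ha', h, hh, c, hc, e⟩ := R.rank_one i _ hy fun e => ha1 (conj_eq_one_iff.1 e)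
  have hy' : R.n i * c * (R.n i)⁻¹ ∈ R.U (R.neg (R.simple i)) := by
    rw [← R.w_simple]
    exact R.n_conj_U i _ c hc
  set k := R.n i * R.n i with hkdef
  have hk : k ∈ R.H := R.n_sq i
  have hy'' : k⁻¹ * (R.n i * c * (R.n i)⁻¹) * k ∈ R.U (R.neg (R.simple i)) := R.conj_H_U' hk hy'
  have eg : b * R.n i * a = (b * a' * h * k) * (k⁻¹ * (R.n i * c * (R.n i)⁻¹) * k) := by
    calc b * R.n i * a = b * (R.n i * a * (R.n i)⁻¹) * R.n i := by group
      _ = _ := by rw [e, hkdef]; group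
  have h1 : b * a' * h * k = 1 := by
    rw [← Subgroup.mem_bot, ← R.B_inf_V]
    refine ⟨mul_mem (mul_mem (mul_mem hb (R.Upos_le_B (R.U_le_Upos (R.pos_simple i) ha')))
      (R.H_le_B hh)) (R.H_le_B hk), ?_⟩
    show b * a' * h * k ∈ R.Vneg
    rw [show b * a' * h * k = (b * R.n i * a) * (k⁻¹ * (R.n i * c * (R.n i)⁻¹) * k)⁻¹ by rw [eg]; group]
    exact mul_mem hgV (inv_mem (R.U_le_Vneg hneg hy''))
  rw [eg, h1, one_mul]
  exact hy''

variable {K : Subgroup Γ} (hK : R.G = K)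
include hK

theorem Upos_le_K : R.Upos ≤ K := hK ▸ R.Upos_le_B.trans R.B_le_G

theorem Vneg_le_K : R.Vneg ≤ K := by
  rw [← R.map_conj_long hl]
  exact map_conj_le (hK ▸ R.N_le_G (R.nw_mem_N l)) (Upos_le_K R hl hK)

/-- After an inner automorphism both `U` and `V` are fixed. -/
theorem exists_fix_pair (θ : K ≃* K) {g : Γ} (hg : g ∈ K)
    (hU : Maps θ R.Upos (R.Upos.map (MulAut.conj g).toMonoidHom)) :
    ∃ x : K, Maps (θ.trans (MulAut.conj x)) R.Upos R.Upos ∧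
      Maps (θ.trans (MulAut.conj x)) R.Vneg R.Vneg := by
  let x₁ : K := ⟨g⁻¹, inv_mem hg⟩
  set θ₁ := θ.trans (MulAut.conj x₁)
  have h1 : Maps θ₁ R.Upos R.Upos := hU.trans (Maps.conj fun y => by
    rw [RootData.mem_map_conj]
    simp [x₁])
  let n : K := ⟨R.nw l, hK ▸ R.N_le_G (R.nw_mem_N l)⟩
  set m : K := θ₁ n
  -- the image of `V` is `m U m⁻¹`
  have hm : Maps θ₁ R.Vneg (R.Upos.map (MulAut.conj (m : Γ)).toMonoidHom) := fun y => by
    rw [RootData.mem_map_conj]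
    have e : (m : Γ)⁻¹ * ((θ₁ y : K) : Γ) * (m : Γ) = ((θ₁ (n⁻¹ * y * n) : K) : Γ) := by simp [m]
    rw [e, ← h1 (n⁻¹ * y * n), conj_long_iff R hl]
    simp [n, mul_assoc]
  obtain ⟨b, hb, r, u, hu, em⟩ := R.exists_normalForm (hK ▸ m.2 : (m : Γ) ∈ R.G)
  obtain ⟨v, hv, h, hh, ev⟩ := R.exists_B hb
  have hbN := B_le_normalizer R hb
  have huN : u ∈ Subgroup.normalizer (R.Upos : Set Γ) := Subgroup.le_normalizer (R.Uminus_le_Upos r hu)
  have hmem : ∀ y, y ∈ R.Upos.map (MulAut.conj (m : Γ)).toMonoidHom ↔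
      (R.nw r)⁻¹ * (b⁻¹ * y * b) * R.nw r ∈ R.Upos := by
    intro y
    rw [RootData.mem_map_conj, em,
      Subgroup.mem_normalizer_iff.1 huN ((b * R.nw r * u)⁻¹ * y * (b * R.nw r * u))]
    apply iff_of_eq
    congr 1
    group
  -- a trivial intersection forces the long element
  have htriv : ∀ x ∈ R.Upos, R.nw r * x * (R.nw r)⁻¹ ∈ R.Upos → x = 1 := by
    intro x hx hx'
    set y := b * (R.nw r * x * (R.nw r)⁻¹) * b⁻¹ with hy
    have hyU : y ∈ R.Upos := (Subgroup.mem_normalizer_iff.1 hbN _).1 hx'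
    have hyM : y ∈ R.Upos.map (MulAut.conj (m : Γ)).toMonoidHom := by
      rw [hmem, hy]
      simpa [mul_assoc] using hx
    have hyK : y ∈ K := Upos_le_K R hl hK hyU
    have hz1 := h1.comap hyU hyK
    have hz2 := hm.comap hyM hyK
    have hz : ((θ₁.symm ⟨y, hyK⟩ : K) : Γ) = 1 := by
      rw [← Subgroup.mem_bot, ← R.B_inf_V]
      exact ⟨R.Upos_le_B hz1, hz2⟩
    rw [show (1 : Γ) = ((1 : K) : Γ) from rfl, Subtype.coe_inj, EmbeddingLike.map_eq_one_iff,
      Subtype.ext_iff] at hz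
    have hz' : b * (R.nw r * x * (R.nw r)⁻¹) * b⁻¹ = 1 := hz
    rwa [conj_eq_one_iff, conj_eq_one_iff] at hz'
  have hlong : ∀ s, R.pos s → ¬ R.pos (R.ww r s) := fun s hs => conj_long_trivial R hl htriv hs
  have hV : ∀ y, y ∈ R.Vneg ↔ (R.nw r)⁻¹ * y * R.nw r ∈ R.Upos := fun y => by
    rw [conj_long_iff R hlong]
    simp [mul_assoc]
  let x₂ : K := ⟨b⁻¹, inv_mem (hK ▸ R.B_le_G hb)⟩
  refine ⟨x₂ * x₁, ?_, ?_⟩
  · rw [show θ.trans (MulAut.conj (x₂ * x₁)) = θ₁.trans (MulAut.conj x₂) by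
      ext y; simp [θ₁, mul_assoc]]
    exact h1.trans (Maps.conj fun y => by
      simpa [x₂] using Subgroup.mem_normalizer_iff.1 (inv_mem hbN) y)
  · rw [show θ.trans (MulAut.conj (x₂ * x₁)) = θ₁.trans (MulAut.conj x₂) by
      ext y; simp [θ₁, mul_assoc]]
    exact hm.trans (Maps.conj fun y => by rw [hmem, hV]; simp [x₂])

theorem cell_le_K (i : I) : R.cellSubgroup i ≤ K := by
  rintro x (hx | hx)
  · exact hK ▸ R.B_le_G hx
  · obtain ⟨b, hb, b', hb', rfl⟩ := DoubleCoset.mem_doubleCoset.1 hx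
    exact hK ▸ mul_mem (mul_mem (R.B_le_G hb) (R.N_le_G (R.n_mem_N i))) (R.B_le_G hb')

theorem eq_of_n_mem_cell {i j : I} (h : R.n j ∈ R.cellSubgroup i) : j = i := by
  rcases h with h | h
  · exact absurd h (n_not_mem_B R j)
  · obtain ⟨b, hb, b', hb', e⟩ := DoubleCoset.mem_doubleCoset.1 h
    have := R.mem_H_of_eq (n := R.n j) (n' := R.n i) (R.n_mem_N j) (R.n_mem_N i) (one_mem _) (one_mem _)
      hb hb' (by rw [one_mul, mul_one, e])
    exact R.n_inj this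

variable {θ : K ≃* K} (hU : Maps θ R.Upos R.Upos) (hV : Maps θ R.Vneg R.Vneg)
include hU

theorem maps_B : Maps θ R.B R.B := fun g => by
  have := (hU.normalizer (Upos_le_K R hl hK) (Upos_le_K R hl hK)) g
  rw [← normalizer_Upos R, Subgroup.mem_inf, Subgroup.mem_inf, this]
  exact and_congr_right fun _ => iff_of_true (hK.symm ▸ g.2) (hK.symm ▸ (θ g).2)

theorem exists_maps_cell (i : I) : ∃ j, Maps θ (R.cellSubgroup i) (R.cellSubgroup j) := by
  have hB := maps_B R hl hK hU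
  have hcell : ∀ k, R.B ≤ R.cellSubgroup k := fun k x hx => Or.inl hx
  have key : ∀ (θ : K ≃* K), Maps θ R.B R.B → ∀ i, ∃ j, ∀ g : K,
      (g : Γ) ∈ R.cellSubgroup j → ((θ g : K) : Γ) ∈ R.cellSubgroup i := by
    intro θ hB i
    let S : Subgroup Γ := ((R.cellSubgroup i).comap (K.subtype.comp θ.toMonoidHom)).map K.subtype
    have hS : ∀ g : K, (g : Γ) ∈ S ↔ ((θ g : K) : Γ) ∈ R.cellSubgroup i := fun g =>
      Subgroup.mem_map_iff_mem K.subtype_injective
    obtain ⟨j, hj⟩ := exists_n_mem R (S := S)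
      (fun x hx => (hS ⟨x, hK ▸ R.B_le_G hx⟩).2 (hcell i ((hB _).1 hx)))
      (hK ▸ Subgroup.map_subtype_le _)
      (fun hle => by
        have hn : R.n i ∈ R.cellSubgroup i :=
          Or.inr (DoubleCoset.mem_doubleCoset.2 ⟨1, one_mem R.B, 1, one_mem R.B, by group⟩)
        have hnK : R.n i ∈ K := cell_le_K R hl hK i hn
        have h1 : ((θ.symm ⟨R.n i, hnK⟩ : K) : Γ) ∈ S := (hS _).2 (by rw [θ.apply_symm_apply]; exact hn)
        have h2 := (hB _).1 (hle h1)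
        rw [θ.apply_symm_apply] at h2
        exact n_not_mem_B R i h2)
    refine ⟨j, fun g hg => (hS g).1 ?_⟩
    rcases hg with hg | hg
    · exact (hS g).2 (hcell i ((hB _).1 hg))
    · obtain ⟨b, hb, b', hb', e⟩ := DoubleCoset.mem_doubleCoset.1 hg
      have hbS : ∀ x ∈ R.B, x ∈ S := fun x hx => (hS ⟨x, hK ▸ R.B_le_G hx⟩).2 (hcell i ((hB _).1 hx))
      rw [e]
      exact mul_mem (mul_mem (hbS b hb) hj) (hbS b' hb')
  obtain ⟨j, hj⟩ := key θ.symm hB.symm i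
  obtain ⟨k, hk⟩ := key θ hB j
  have hki : k = i := by
    refine (eq_of_n_mem_cell R hl hK ?_)
    have hn : R.n k ∈ R.cellSubgroup k :=
      Or.inr (DoubleCoset.mem_doubleCoset.2 ⟨1, one_mem R.B, 1, one_mem R.B, by group⟩)
    have h1 := hk ⟨_, cell_le_K R hl hK k hn⟩ hn
    have h2 := hj _ h1
    rwa [θ.symm_apply_apply] at h2
  subst hki
  exact ⟨j, fun g => ⟨hk g, fun h => by simpa using hj _ h⟩⟩

include hV

theorem maps_H : Maps θ R.H R.H := by
  rw [← normalizer_Vneg_inf_B R hl]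
  exact (hV.normalizer (Vneg_le_K R hl hK) (Vneg_le_K R hl hK)).inf (maps_B R hl hK hU)

theorem exists_maps_neg (i : I) :
    ∃ j, Maps θ (R.U (R.neg (R.simple i))) (R.U (R.neg (R.simple j))) := by
  obtain ⟨j, hj⟩ := exists_maps_cell R hl hK hU i
  refine ⟨j, ?_⟩
  rw [← cell_inf_Vneg R hl, ← cell_inf_Vneg R hl]
  exact hj.inf hV

theorem exists_maps_pos (ι : I → I) (hι : ∀ i, R.ww l (R.simple i) = R.neg (R.simple (ι i)))
    (hι' : Function.Surjective ι) (i : I) :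
    ∃ j, Maps θ (R.U (R.simple i)) (R.U (R.simple j)) := by
  let n : K := ⟨R.nw l, hK ▸ R.N_le_G (R.nw_mem_N l)⟩
  have hUV : Maps (MulAut.conj n) R.Upos R.Vneg := Maps.conj fun y => conj_long_iff R hl y
  have hVU : Maps (MulAut.conj n) R.Vneg R.Upos := Maps.conj fun y => conj_long_back R hl y
  have hX : ∀ i, Maps (MulAut.conj n) (R.U (R.simple i)) (R.U (R.neg (R.simple (ι i)))) := by
    intro i
    have := Maps.conj_map n (R.U (R.simple i))
    rwa [show (n : Γ) = R.nw l from rfl, R.map_conj_U, hι i] at this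
  let θ' := ((MulAut.conj n).symm.trans θ).trans (MulAut.conj n)
  have h1 : Maps θ' R.Upos R.Upos := (hVU.symm.trans hV).trans hVU
  have h2 : Maps θ' R.Vneg R.Vneg := (hUV.symm.trans hU).trans hUV
  obtain ⟨j, hj⟩ := exists_maps_neg R hl hK h1 h2 (ι i)
  obtain ⟨k, rfl⟩ := hι' j
  refine ⟨k, ?_⟩
  have h3 := ((hX i).trans hj).trans (hX k).symm
  rwa [show ((MulAut.conj n).trans θ').trans (MulAut.conj n).symm = θ by ext y; simp [θ', mul_assoc]] at h3

end Cfsg.Agent.ChevAut
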