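import Cfsg.Agent.Lib.ChevAut.Maps
import Cfsg.Agent.Lib.ChevBN.Facts
import Cfsg.Agent.Lib.Chev.SL2Hom
import Cfsg.Agent.Lib.RGD.NormalForm
import Mathlib.FieldTheory.Finite.Basic

/-!
# Automorphisms on a fundamental rank-one subgroup

* `exists_ringEquiv` : additive, inverse preserving bijections of a finite field are automorphisms;
* `exists_field_of_maps` : an automorphism carrying `X_{±αᵢ}` to `X_{±αⱼ}` acts by `(c σ, c⁻¹ σ)`.
-/

set_option autoImplicit false

namespace Cfsg.Agent.ChevAut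

open Cfsg.Lie Cfsg.Lie.ChevalleyDatum Cfsg.Agent.Chev Cfsg.Agent.ChevBN Cfsg.Agent.ChevSt

/-- Hua's lemma for finite fields. -/
theorem exists_ringEquiv {F : Type*} [Field F] [Finite F] (f : F → F) (hinj : Function.Injective f)
    (hadd : ∀ a b, f (a + b) = f a + f b) (h1 : f 1 = 1) (hinv : ∀ a, f a⁻¹ = (f a)⁻¹) :
    ∃ σ : F ≃+* F, ∀ t, σ t = f t := by
  let φ : F →+ F := AddMonoidHom.mk' f hadd
  have hsub : ∀ a b, f (a - b) = f a - f b := fun a b => φ.map_sub a b
  have h0 : f 0 = 0 := φ.map_zero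
  have haba : ∀ a b, f (a * a * b) = f a * f a * f b := by
    intro a b
    by_cases ha : a = 0
    · simp [ha, h0]
    by_cases hb : b = 0
    · simp [hb, h0]
    by_cases hab : a * b = 1
    · have hb' : b = a⁻¹ := eq_inv_of_mul_eq_one_right hab
      have hfa : f a ≠ 0 := fun e => ha (hinj (e.trans h0.symm))
      rw [hb', hinv]
      field_simp
    · have key : ∀ x y : F, x ≠ 0 → y ≠ 0 → x * y ≠ 1 →
          x - (x⁻¹ + (y⁻¹ - x)⁻¹)⁻¹ = x * x * y := by
        intro x y hx hy hxy
        have h2 : (1 : F) - x * y ≠ 0 := sub_ne_zero.2 (Ne.symm hxy)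
        have e : x⁻¹ + (y⁻¹ - x)⁻¹ = (x * (1 - x * y))⁻¹ := by
          rw [show y⁻¹ - x = (1 - x * y) / y by field_simp]
          field_simp
          ring
        rw [e, inv_inv]
        ring
      have hne : f a * f b ≠ 1 := by
        intro e
        apply hab
        have hfa : f a ≠ 0 := fun e' => ha (hinj (e'.trans h0.symm))
        have hfb : f b = (f a)⁻¹ := eq_inv_of_mul_eq_one_right e
        rw [← hinv] at hfb
        rw [hinj hfb, mul_inv_cancel₀ ha]
      rw [← key a b ha hb hab, hsub, hinv, hadd, hinv, hinv, hsub, hinv,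
        key _ _ (fun e => ha (hinj (e.trans h0.symm))) (fun e => hb (hinj (e.trans h0.symm))) hne]
  have hsq : ∀ a, f (a * a) = f a * f a := fun a => by simpa [h1] using haba a 1
  have hmul : ∀ a b, f (a * b) = f a * f b := by
    by_cases h2 : (2 : F) = 0
    · have hc : ringChar F = 2 := CharP.ringChar_of_prime_eq_zero Nat.prime_two (by exact_mod_cast h2)
      intro a b
      obtain ⟨c, rfl⟩ := FiniteField.isSquare_of_char_two hc a
      rw [haba, hsq]
    · intro a b
      have h := hsq (a + b)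
      rw [show (a + b) * (a + b) = a * a + b * b + (a * b + a * b) by ring, hadd, hadd, hadd, hsq, hsq,
        hadd] at h
      have : (2 : F) * f (a * b) = 2 * (f a * f b) := by linear_combination h
      exact mul_left_cancel₀ h2 this
  let ψ : F →+* F := { φ with map_one' := h1, map_mul' := hmul }
  exact ⟨RingEquiv.ofBijective ψ (Finite.injective_iff_bijective.1 ψ.injective), fun t => rfl⟩

variable {D : ChevalleyDatum} {M : List (List ℤ)} {d : ℤ} (hD : Good D) (hR : Roots D M d)
  {F : Type*} [Field F]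

/-- The root elements in the group. -/
def gx (r : ℕ) (t : F) : D.group F := ⟨xg hD F r t, xg_mem_group hD r t⟩

omit hR in
include hD in
theorem ng_conj_pos {r : ℕ} (hr : r < D.nroots) {c : F} (hc : c ≠ 0) (u : F) :
    ng hD F r c * xg hD F r u * (ng hD F r c)⁻¹ = xg hD F (D.neg r) (-u / c ^ 2) := by
  have h1 : ng hD F r 1 * xg hD F r u * (ng hD F r 1)⁻¹ = xg hD F (D.neg r) (-u) := by
    have e : ng hD F r 1 * xg hD F r u * (ng hD F r 1)⁻¹ = hg hD F r (-1) *
        ((ng hD F r 1)⁻¹ * xg hD F r u * ng hD F r 1) * (hg hD F r (-1))⁻¹ := by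
      rw [← RankOne.ng_sq hD hr]; group
    rw [e, RankOne.ng_conj_self hD hr, RankOne.hg_conj_neg hD hr (by simp), mul_inv_cancel_right]
    congr 1
    ring
  calc ng hD F r c * xg hD F r u * (ng hD F r c)⁻¹
      = hg hD F r c * (ng hD F r 1 * xg hD F r u * (ng hD F r 1)⁻¹) * (hg hD F r c)⁻¹ := by
        rw [RankOne.ng_eq_hg_mul hD r c]; group
    _ = _ := by
        rw [h1, RankOne.hg_conj_neg hD hr hc, mul_inv_cancel_right]
        congr 1
        field_simp

include hD hR

/-- A product `x(a) x₋(b) x(a)` exchanging `X_{±α}` has `a b = -1`. -/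
theorem mul_eq_neg_one {i : Fin D.rank} {a b : F}
    (h1 : (D.rootSubgroup F (D.simple i)).map (MulAut.conj (xg hD F (D.simple i) a *
      xg hD F (D.neg (D.simple i)) b * xg hD F (D.simple i) a)).toMonoidHom =
      D.rootSubgroup F (D.neg (D.simple i)))
    (h2 : (D.rootSubgroup F (D.neg (D.simple i))).map (MulAut.conj (xg hD F (D.simple i) a *
      xg hD F (D.neg (D.simple i)) b * xg hD F (D.simple i) a)).toMonoidHom =
      D.rootSubgroup F (D.simple i)) :
    a * b = -1 := by
  set R := chevRGD hD hR F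
  set s := D.simple i.val with hs
  have hsl : s < D.nroots := hD.simple_lt _ i.isLt
  have hneg : ¬ R.pos (R.neg (R.simple i)) := fun h => (R.pos_neg _).1 h (R.pos_simple i)
  have hmem : xg hD F s a * xg hD F (D.neg s) b * xg hD F s a ∈ R.L i :=
    mul_mem (mul_mem (Subgroup.mem_sup_left (Subgroup.mem_sup_left (xg_mem_rootSubgroup hD _ _)))
      (Subgroup.mem_sup_left (Subgroup.mem_sup_right (xg_mem_rootSubgroup hD _ _))))
      (Subgroup.mem_sup_left (Subgroup.mem_sup_left (xg_mem_rootSubgroup hD _ _)))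
  obtain ⟨h, hh, e⟩ := R.mem_H_mul_n hmem h1 h2
  have hb : b ≠ 0 := by
    intro hb
    subst hb
    apply R.not_U_le_B hneg
    rw [show R.U (R.neg (R.simple i)) = D.rootSubgroup F (D.neg s) from rfl, ← h1]
    rintro _ ⟨y, hy, rfl⟩
    have hU : ∀ z ∈ D.rootSubgroup F s, z ∈ R.B := fun z hz =>
      R.Upos_le_B (R.U_le_Upos (R.pos_simple i) hz)
    rw [xg_zero, mul_one]
    exact mul_mem (mul_mem (mul_mem (hU _ (xg_mem_rootSubgroup hD _ _)) (hU _ (xg_mem_rootSubgroup hD _ _)))
      (hU y hy)) (inv_mem (mul_mem (hU _ (xg_mem_rootSubgroup hD _ _)) (hU _ (xg_mem_rootSubgroup hD _ _))))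
  have hy : xg hD F (D.neg s) b = xg hD F s b⁻¹ * ng hD F s (-b⁻¹) * xg hD F s b⁻¹ := by
    rw [ng, show (-(-b⁻¹)⁻¹ : F) = b by rw [inv_neg, inv_inv, _root_.neg_neg], ← xg_inv]
    group
  set c := a + b⁻¹ with hc
  have e' : xg hD F s c * ng hD F s (-b⁻¹) * xg hD F s c =
      (h * (hg hD F s (-b⁻¹))⁻¹) * ng hD F s (-b⁻¹) * 1 := by
    have hr : h * (hg hD F s (-b⁻¹))⁻¹ * ng hD F s (-b⁻¹) * 1 = h * R.n i := by
      rw [RankOne.ng_eq_hg_mul hD s (-b⁻¹)]
      show _ = h * ng hD F s 1
      group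
    rw [hr, ← e, hy, hc, ← xg_add hD hsl a b⁻¹]
    nth_rewrite 2 [show xg hD F s a * xg hD F s b⁻¹ = xg hD F s b⁻¹ * xg hD F s a by
      rw [xg_add hD hsl, xg_add hD hsl, add_comm]]
    group
  have hk : hg hD F s (-b⁻¹) ∈ R.H :=
    Subgroup.subset_closure ⟨_, _, hsl, neg_ne_zero.2 (inv_ne_zero hb), coe_hg hD _ _⟩
  have hU : xg hD F s c ∈ R.Uminus [i] := by
    refine R.U_le_span (A := {r | R.pos r ∧ ¬ R.pos (R.ww [i] r)}) (r := R.simple i) ⟨R.pos_simple i, ?_⟩
      (xg_mem_rootSubgroup hD _ _)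
    rw [R.ww_cons, R.ww_nil, R.w_simple]
    exact hneg
  obtain ⟨-, hu⟩ := R.normalForm_unique (k := hg hD F s (-b⁻¹)) (l := [i]) hk
    (by rw [R.nw_cons, R.nw_nil, mul_one]; exact RankOne.ng_eq_hg_mul hD s _)
    (R.Upos_le_B (R.U_le_Upos (R.pos_simple i) (xg_mem_rootSubgroup hD _ _)))
    (mul_mem (R.H_le_B hh) (inv_mem (R.H_le_B hk))) hU (one_mem _) e'
  have hc0 := xg_eq_one hD hsl hu
  rw [show a = c - b⁻¹ by simp [hc], hc0]
  field_simp
  ring

/-- An automorphism mapping `X_{±αᵢ}` to `X_{±αⱼ}`. -/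
theorem exists_field_of_maps [Finite F] {θ : D.group F ≃* D.group F} {i j : Fin D.rank}
    (hp : Maps θ (D.rootSubgroup F (D.simple i)) (D.rootSubgroup F (D.simple j)))
    (hm : Maps θ (D.rootSubgroup F (D.neg (D.simple i))) (D.rootSubgroup F (D.neg (D.simple j)))) :
    ∃ (σ : F ≃+* F) (c : Fˣ), ∀ t,
      θ (gx hD (D.simple i) t) = gx hD (D.simple j) (c * σ t) ∧
      θ (gx hD (D.neg (D.simple i)) t) = gx hD (D.neg (D.simple j)) ((c⁻¹ : Fˣ) * σ t) := by
  set r := D.simple i.val
  set s := D.simple j.val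
  have hr : r < D.nroots := hD.simple_lt _ i.isLt
  have hs : s < D.nroots := hD.simple_lt _ j.isLt
  have ex1 : ∀ t, ∃ u, θ (gx hD r t) = gx hD s u := fun t => by
    obtain ⟨u, hu⟩ := (mem_rootSubgroup hD s).1 ((hp (gx hD r t)).1 (xg_mem_rootSubgroup hD _ _))
    exact ⟨u, Subtype.ext hu⟩
  have ex2 : ∀ t, ∃ u, θ (gx hD (D.neg r) t) = gx hD (D.neg s) u := fun t => by
    obtain ⟨u, hu⟩ :=
      (mem_rootSubgroup hD _).1 ((hm (gx hD (D.neg r) t)).1 (xg_mem_rootSubgroup hD _ _))
    exact ⟨u, Subtype.ext hu⟩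
  choose f hf using ex1
  choose g hg' using ex2
  have hinjx : ∀ {q : ℕ}, q < D.nroots → ∀ {t u : F}, gx hD q t = gx hD q u → t = u := by
    intro q hq t u h
    have h' : xg hD F q t = xg hD F q u := congrArg Subtype.val h
    have : xg hD F q (t - u) = 1 := by
      rw [sub_eq_add_neg, ← xg_add hD hq, h', ← xg_inv, mul_inv_cancel]
    exact sub_eq_zero.1 (xg_eq_one hD hq this)
  have hfadd : ∀ t u, f (t + u) = f t + f u := fun t u => by
    apply hinjx hs
    have : gx hD r (t + u) = gx hD r t * gx hD r u := Subtype.ext (xg_add hD hr t u).symm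
    rw [← hf, this, map_mul, hf, hf]
    exact Subtype.ext (xg_add hD hs _ _)
  have hfinj : Function.Injective f := fun t u h => hinjx hr (θ.injective (by rw [hf, hf, h]))
  have hf0 : f 0 = 0 := by have := hfadd 0 0; rw [add_zero] at this; simpa using this
  let n : F → D.group F := fun a => gx hD r a * gx hD (D.neg r) (-a⁻¹) * gx hD r a
  have key : ∀ a, a ≠ 0 → f a * g (-a⁻¹) = -1 := by
    intro a ha
    have hθn : ((θ (n a) : D.group F) : GL D.Idx F) =
        xg hD F s (f a) * xg hD F (D.neg s) (g (-a⁻¹)) * xg hD F s (f a) := by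
      simp only [n, map_mul, hf, hg']
      rfl
    have hnc : ∀ u, n a * gx hD r u * (n a)⁻¹ = gx hD (D.neg r) (-u / a ^ 2) := fun u =>
      Subtype.ext (ng_conj_pos hD hr ha u)
    have hUP : Maps θ.symm (D.rootSubgroup F s) (D.rootSubgroup F r) := hp.symm
    have hsle : ∀ q, D.rootSubgroup F q ≤ D.group F := fun q x hx => by
      obtain ⟨t, rfl⟩ := (mem_rootSubgroup hD q).1 hx
      exact xg_mem_group hD q t
    have hA : Maps (MulAut.conj (n a)) (D.rootSubgroup F r) (D.rootSubgroup F (D.neg r)) := by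
      intro y
      constructor
      · intro hy
        obtain ⟨u, hu⟩ := (mem_rootSubgroup hD r).1 hy
        obtain rfl : y = gx hD r u := Subtype.ext hu
        rw [MulAut.conj_apply, hnc]
        exact xg_mem_rootSubgroup hD _ _
      · intro hy
        obtain ⟨u, hu⟩ := (mem_rootSubgroup hD _).1 hy
        have : MulAut.conj (n a) y = MulAut.conj (n a) (gx hD r (-(u * a ^ 2))) := by
          refine (Subtype.ext hu : MulAut.conj (n a) y = gx hD (D.neg r) u).trans ?_
          rw [MulAut.conj_apply, hnc]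
          show gx hD (D.neg r) u = _
          congr 1
          field_simp
        rw [(MulAut.conj (n a)).injective this]
        exact xg_mem_rootSubgroup hD _ _
    have hB : Maps (MulAut.conj (n a)) (D.rootSubgroup F (D.neg r)) (D.rootSubgroup F r) := by
      intro y
      have hsq : n a * n a ∈ (D.diagonalSubgroup F).subgroupOf (D.group F) := by
        have := ng_mul_mem hD r hr ha ha
        exact this
      have h1 := hA ((n a)⁻¹ * y * n a)
      have h2 : (((n a)⁻¹ * y * n a : D.group F) : GL D.Idx F) ∈ D.rootSubgroup F r ↔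
          ((MulAut.conj (n a) y : D.group F) : GL D.Idx F) ∈ D.rootSubgroup F r := by
        have e : MulAut.conj (n a) y = (n a * n a) * ((n a)⁻¹ * y * n a) * (n a * n a)⁻¹ := by
          rw [MulAut.conj_apply]; group
        rw [e]
        refine ⟨fun h => toral_conj_rootSubgroup hD hsq h, fun h => ?_⟩
        have h' := toral_conj_rootSubgroup hD (inv_mem hsq) h
        simpa [mul_assoc] using h'
      rw [← h2, h1]
      simp [mul_assoc]
    have h1 : ∀ {A B : Subgroup (GL D.Idx F)}, A ≤ D.group F → B ≤ D.group F →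
        Maps (MulAut.conj (θ (n a))) A B →
        A.map (MulAut.conj ((θ (n a) : D.group F) : GL D.Idx F)).toMonoidHom = B :=
      fun hA' hB' h => (Maps.conj_map _ _).unique h (map_conj_le (θ (n a)).2 hA') hB'
    have e : θ.symm.trans ((MulAut.conj (n a)).trans θ) = MulAut.conj (θ (n a)) := by
      ext y; simp
    refine mul_eq_neg_one hD hR (i := j) (a := f a) (b := g (-a⁻¹)) ?_ ?_
    · rw [← hθn]
      exact h1 (hsle _) (hsle _) (e ▸ (hp.symm.trans (hA.trans hm)))
    · rw [← hθn]
      exact h1 (hsle _) (hsle _) (e ▸ (hm.symm.trans (hB.trans hp)))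
  set c := f 1 with hc
  have hc0 : c ≠ 0 := fun e => one_ne_zero (hfinj (e.trans hf0.symm))
  -- conjugation by `n(1)`
  have hg1 : ∀ t, g t = f t / c ^ 2 := by
    intro t
    have hθn : θ (n 1) = gx hD s c * gx hD (D.neg s) (-c⁻¹) * gx hD s c := by
      have h := key 1 one_ne_zero
      rw [inv_one] at h
      have hg0 : g (-1) = -c⁻¹ := by field_simp; linear_combination h
      simp only [n, inv_one, map_mul, hf, hg', hg0, ← hc]
    have h1 : n 1 * gx hD r (-t) * (n 1)⁻¹ = gx hD (D.neg r) t := Subtype.ext (by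
      refine (ng_conj_pos hD hr one_ne_zero (-t)).trans ?_
      simp [gx])
    have hfn : f (-t) = -f t := eq_neg_of_add_eq_zero_left (by rw [← hfadd, neg_add_cancel, hf0])
    apply hinjx (hD.neg_lt s hs)
    rw [← hg', ← h1, map_mul, map_mul, map_inv, hf, hθn, hfn]
    apply Subtype.ext
    refine (ng_conj_pos hD hs hc0 _).trans ?_
    simp [gx]
  let f0 : F → F := fun t => f t / c
  have hinv : ∀ a, f0 a⁻¹ = (f0 a)⁻¹ := by
    intro a
    by_cases ha : a = 0
    · simp [f0, ha, hf0]
    have hfn : f (-a⁻¹) = -f a⁻¹ := eq_neg_of_add_eq_zero_left (by rw [← hfadd, neg_add_cancel, hf0])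
    have h := key a ha
    rw [hg1, hfn] at h
    have hfa : f a ≠ 0 := fun e => ha (hfinj (e.trans hf0.symm))
    show f a⁻¹ / c = (f a / c)⁻¹
    field_simp at h ⊢
    linear_combination -h
  obtain ⟨σ, hσ⟩ := exists_ringEquiv f0 (fun a b h => hfinj (by
      have := congrArg (· * c) h
      simpa [f0, hc0] using this))
    (fun a b => by simp [f0, hfadd, add_div]) (by simp [f0, ← hc, hc0]) hinv
  refine ⟨σ, Units.mk0 c hc0, fun t => ⟨?_, ?_⟩⟩
  · rw [hf, hσ]
    congr 1
    simp [f0]
    field_simp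
  · rw [hg', hg1, hσ]
    congr 1
    simp [f0]
    field_simp

end Cfsg.Agent.ChevAut
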