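import Cfsg.Agent.Lib.ChevAut.Setup
import Cfsg.Agent.Lib.ChevAut.RankOneAut
import Cfsg.Agent.Lib.ChevAut.Diagram
import Cfsg.Agent.Lib.ChevOrder.Weyl

/-!
# The permutation of the nodes is a symmetry of the diagram

* `crit_iff` : the order of a product of two fundamental reflections;
* `exists_symmetry` : after an inner automorphism `θ` acts as `(cᵢ σᵢ, cᵢ⁻¹ σᵢ)` on `X_{±αᵢ}`, permuted by a
  symmetry of the diagram.
-/

set_option autoImplicit false

namespace Cfsg.Agent.ChevAut

open Cfsg.Lie Cfsg.Lie.ChevalleyDatum Cfsg.Agent.Chev Cfsg.Agent.ChevBN Cfsg.Agent.ChevSt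

variable {D : ChevalleyDatum} {M : List (List ℤ)} {d : ℤ} {ord : List ℕ} {F : Type*} [Field F]
  (hD : Good D) (hR : Roots D M d) (hG : DiagOK D ord = true)

include hG in
theorem cartan_pair {i j : Fin D.rank} (hij : i ≠ j) :
    (D.cartan i (D.simple j), D.cartan j (D.simple i)) ∈ cartanPairs ∧ D.bonds i j ∈ [(0 : ℤ), 1, 2, 3] := by
  have hv : i.val ≠ j.val := fun e => hij (Fin.ext e)
  have h1 := pairDiagOK hG i.isLt j.isLt hv
  have h2 := pairDiagOK hG j.isLt i.isLt hv.symm
  have hs : D.bonds j i = D.bonds i j := mul_comm _ _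
  simp only [PairDiagOK, Bool.and_eq_true, decide_eq_true_eq, hs] at h1 h2
  refine ⟨?_, by simpa using h1.1.1.1⟩
  rcases h1.1.1.1 with h | h | h | h
  · simp [cartanPairs, h1.1.1.2 h, h2.1.1.2 h]
  · simp [cartanPairs, (h1.1.2 h).1, (h2.1.2 h).1]
  all_goals
    obtain ⟨ha, hb⟩ := h1.2 (by omega)
    obtain ⟨-, hc⟩ := h2.2 (by omega)
    rw [hb, hc, ha]
    rcases Bool.eq_false_or_eq_true (D.isLong (D.simple j)) with hl | hl <;> simp [hl, h, cartanPairs]

include hD hR

/-- The Cartan integers of a root from its coefficients. -/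
theorem cartan_expand (i : Fin D.rank) {q : ℕ} (hq : q < D.nroots) :
    D.cartan i q * d = ∑ k : Fin D.rank, co D M k q * D.cartan i (D.simple k) := by
  refine lin_ext hD hR (f := fun q => D.cartan i.val q * d)
    (g := fun q => ∑ k : Fin D.rank, co D M k.val q * D.cartan i.val (D.simple k.val)) ?_ ?_ ?_ hq
  · exact ⟨fun a ha b hb k hk => by simp only [(isLin_cartan hD i.isLt).add a ha b hb k hk, add_mul],
      fun a ha => by simp only [(isLin_cartan hD i.isLt).neg a ha, neg_mul]⟩
  · exact ⟨fun a ha b hb k hk => by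
        simp only [(isLin_co hD M _).add a ha b hb k hk, add_mul, Finset.sum_add_distrib],
      fun a ha => by simp only [(isLin_co hD M _).neg a ha, neg_mul, Finset.sum_neg_distrib]⟩
  · intro j hj
    show _ = ∑ k : Fin D.rank, _
    rw [Fintype.sum_eq_single ⟨j, hj⟩ fun k hk => by
      rw [hR.dual k.val k.isLt j hj, if_neg fun e => hk (Fin.ext e), zero_mul]]
    rw [hR.dual j hj j hj, if_pos rfl, mul_comm]

/-- A word in `N` lies in `H` iff it keeps the fundamental roots positive. -/
theorem mem_H_iff_simple (l : List (Fin D.rank)) :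
    (chevRGD hD hR F).nw l ∈ D.diagonalSubgroup F ↔
      ∀ k, (chevRGD hD hR F).pos ((chevRGD hD hR F).ww l ((chevRGD hD hR F).simple k)) := by
  set R := chevRGD hD hR F
  refine (R.mem_H_iff l).trans ⟨fun h k => h _ (R.pos_simple k), fun h r hr => ?_⟩
  obtain ⟨g, hg, e⟩ := lin_comp hD hR F l (isLin_ht hD M)
  have h1 : 0 < g r.val := lin_pos hD hR hg (fun i hi => by
    rw [e ⟨D.simple i, hD.simple_lt i hi⟩]
    exact hR.ht_pos _ (Fin.isLt _) (h ⟨i, hi⟩)) r.isLt hr
  rw [e r] at h1
  change 0 < ht D M (R.ww l r).val at h1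
  by_contra hn
  have h2 := hR.ht_pos _ (hD.neg_lt _ (R.ww l r).isLt) ((pos_or_neg hD (R.ww l r).isLt).2 hn)
  rw [(isLin_ht hD M).neg _ (R.ww l r).isLt] at h2
  omega

include hG

theorem crit_iff {i j : Fin D.rank} (hij : i ≠ j) {m : ℕ} (hm : m ∈ [2, 3, 4, 6]) :
    (chevRGD hD hR F).nw (pairWord i j m) ∈ D.diagonalSubgroup F ↔ crit (D.bonds i j) m = true := by
  set R := chevRGD hD hR F
  set a := D.cartan i.val (D.simple j.val) with ha
  set b := D.cartan j.val (D.simple i.val) with hb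
  have hself : ∀ k : Fin D.rank, D.cartan k.val (D.simple k.val) = 2 := fun k => by
    rw [← pairing_simple hD k.isLt, hD.pairing_self _ (hD.simple_lt _ k.isLt)]
  have hsum : ∀ (q : ℕ), q < D.nroots → ∀ k : Fin D.rank,
      (∀ l : Fin D.rank, l ≠ i → l ≠ j → co D M l q = 0) →
      D.cartan k q * d = co D M i q * D.cartan k (D.simple i) + co D M j q * D.cartan k (D.simple j) := by
    intro q hq k h0
    rw [cartan_expand hD hR k hq, ← Finset.sum_pair (f := fun l : Fin D.rank => co D M l q * D.cartan k (D.simple l)) hij]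
    refine (Finset.sum_subset (Finset.subset_univ _) fun l _ hl => ?_).symm
    simp only [Finset.mem_insert, Finset.mem_singleton, not_or] at hl
    rw [h0 l hl.1 hl.2, zero_mul]
  let St : Fin D.nroots → ℤ × ℤ → Prop := fun q v =>
    co D M i q.val = v.1 * d ∧ co D M j q.val = v.2 * d ∧
      ∀ l : Fin D.rank, l ≠ i → l ≠ j → co D M l q.val = 0
  have hvne : i.val ≠ j.val := fun e => hij (Fin.ext e)
  have step : ∀ q v, St q v → St (R.w i (R.w j q)) (stepPair a b v) := by
    rintro q ⟨x, y⟩ ⟨hx, hy, h0⟩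
    have hlt : wN D j.val q.val < D.nroots := refl_lt hD (hD.simple_lt _ j.isLt) q.isLt
    have hj1 := hsum q.val q.isLt j h0
    rw [hself j, hx, hy, ← hb] at hj1
    have co1 : ∀ l : Fin D.rank, co D M l (wN D j.val q.val) =
        co D M l q.val - if l.val = j.val then D.cartan j.val q.val * d else 0 := fun l =>
      hR.co_refl hD j.isLt q.isLt l.isLt
    have hx' : co D M i (wN D j.val q.val) = x * d := by rw [co1, if_neg hvne, hx, sub_zero]
    have hy' : co D M j (wN D j.val q.val) = (-y - b * x) * d := by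
      rw [co1, if_pos rfl, hy, hj1]; ring
    have h0' : ∀ l : Fin D.rank, l ≠ i → l ≠ j → co D M l (wN D j.val q.val) = 0 := fun l hli hlj => by
      rw [co1, if_neg (fun e => hlj (Fin.ext e)), h0 l hli hlj, sub_zero]
    have hi1 := hsum _ hlt i h0'
    rw [hself i, hx', hy', ← ha] at hi1
    have co2 : ∀ l : Fin D.rank, co D M l (wN D i.val (wN D j.val q.val)) =
        co D M l (wN D j.val q.val) - if l.val = i.val then D.cartan i.val (wN D j.val q.val) * d else 0 :=
      fun l => hR.co_refl hD i.isLt hlt l.isLt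
    refine ⟨?_, ?_, fun l hli hlj => ?_⟩
    · show co D M i (wN D i.val (wN D j.val q.val)) = _
      rw [co2, if_pos rfl, hx', hi1, stepPair]; ring
    · show co D M j (wN D i.val (wN D j.val q.val)) = _
      rw [co2, if_neg hvne.symm, hy', stepPair]; ring
    · show co D M l (wN D i.val (wN D j.val q.val)) = _
      rw [co2, if_neg (fun e => hli (Fin.ext e)), h0' l hli hlj, sub_zero]
  have iter : ∀ q v, St q v → ∀ n, St (R.ww (pairWord i j n) q) ((stepPair a b)^[n] v) := by
    intro q v h n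
    induction n with
    | zero => exact h
    | succ n ih =>
      rw [Function.iterate_succ_apply']
      exact step _ _ ih
  have posIff : ∀ q v, St q v → (R.pos q ↔ 0 ≤ v.1 ∧ 0 ≤ v.2) := by
    intro q v ⟨hx, hy, h0⟩
    show D.IsPosRoot q.val ↔ _
    rw [hR.sgn q.val q.isLt]
    constructor
    · intro h
      have h1 := h i i.isLt
      have h2 := h j j.isLt
      rw [hx] at h1; rw [hy] at h2
      exact ⟨nonneg_of_mul_nonneg_left h1 hR.d_pos, nonneg_of_mul_nonneg_left h2 hR.d_pos⟩
    · rintro ⟨h1, h2⟩ k hk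
      by_cases hki : (⟨k, hk⟩ : Fin D.rank) = i
      · obtain rfl := hki; exact hx ▸ mul_nonneg h1 hR.d_pos.le
      by_cases hkj : (⟨k, hk⟩ : Fin D.rank) = j
      · obtain rfl := hkj; exact hy ▸ mul_nonneg h2 hR.d_pos.le
      exact (h0 ⟨k, hk⟩ hki hkj).ge
  have hdual : ∀ l k : Fin D.rank, co D M l (D.simple k) = if l = k then d else 0 := fun l k => by
    rw [hR.dual l.val l.isLt k.val k.isLt]
    simp [Fin.val_inj]
  have hother : ∀ k : Fin D.rank, k ≠ i → k ≠ j → ∀ n, R.pos (R.ww (pairWord i j n) (R.simple k)) := by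
    intro k hki hkj n
    have h : ∀ w : List (Fin D.rank), (∀ x ∈ w, x = i ∨ x = j) →
        0 < co D M k (R.ww w (R.simple k)).val := by
      intro w hw
      induction w with
      | nil =>
        show 0 < co D M k (D.simple k.val)
        rw [hdual, if_pos rfl]
        exact hR.d_pos
      | cons x w ih =>
        show 0 < co D M k (wN D x.val (R.ww w (R.simple k)).val)
        rw [hR.co_refl hD x.isLt (Fin.isLt _) k.isLt, if_neg ?_, sub_zero]
        · exact ih fun y hy => hw y (List.mem_cons_of_mem _ hy)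
        · intro e
          rcases hw x List.mem_cons_self with rfl | rfl
          exacts [hki (Fin.ext e), hkj (Fin.ext e)]
    by_contra hn
    have h1 := h (pairWord i j n) (fun x hx => by
      clear hn
      induction n with
      | zero => simp [pairWord] at hx
      | succ n ih =>
        simp only [pairWord, List.mem_cons] at hx
        rcases hx with hx | hx | hx
        exacts [Or.inl hx, Or.inr hx, ih hx])
    have h2 := hR.nonpos_of_not_pos hD (Fin.isLt _) hn k.isLt
    omega
  have Si : St (R.simple i) (1, 0) :=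
    ⟨by show co D M i (D.simple i.val) = _; rw [hdual, if_pos rfl, one_mul],
      by show co D M j (D.simple i.val) = _; rw [hdual, if_neg hij.symm, zero_mul],
      fun l hl _ => by show co D M l (D.simple i.val) = _; rw [hdual, if_neg hl]⟩
  have Sj : St (R.simple j) (0, 1) :=
    ⟨by show co D M i (D.simple j.val) = _; rw [hdual, if_neg hij, zero_mul],
      by show co D M j (D.simple j.val) = _; rw [hdual, if_pos rfl, one_mul],
      fun l _ hl => by show co D M l (D.simple j.val) = _; rw [hdual, if_neg hl]⟩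
  rw [mem_H_iff_simple hD hR, show D.bonds i j = a * b from rfl,
    crit_stepPair (a, b) (cartan_pair hG hij).1 m hm, Bool.and_eq_true, decide_eq_true_eq, decide_eq_true_eq]
  constructor
  · intro h
    exact ⟨(posIff _ _ (iter _ _ Si m)).1 (h i), (posIff _ _ (iter _ _ Sj m)).1 (h j)⟩
  · intro ⟨h1, h2⟩ k
    by_cases hki : k = i
    · subst hki; exact (posIff _ _ (iter _ _ Si m)).2 h1
    by_cases hkj : k = j
    · subst hkj; exact (posIff _ _ (iter _ _ Sj m)).2 h2
    exact hother k hki hkj m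

omit hG in
theorem xg_injective {r : ℕ} (hr : r < D.nroots) {t u : F} (h : xg hD F r t = xg hD F r u) : t = u := by
  refine sub_eq_zero.1 (xg_eq_one hD hr ?_)
  rw [sub_eq_add_neg, ← xg_add hD hr, h, ← xg_inv, mul_inv_cancel]

omit hG in
/-- `X_{αᵢ}` and `X_{-αⱼ}` commute for `i ≠ j`. -/
theorem commute_simple {i j : Fin D.rank} (hij : i ≠ j) (t u : F) :
    xg hD F (D.neg (D.simple j)) u * xg hD F (D.simple i) t =
      xg hD F (D.simple i) t * xg hD F (D.neg (D.simple j)) u := by
  have hi := hD.simple_lt _ i.isLt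
  have hj := hD.neg_lt _ (hD.simple_lt _ j.isLt)
  have h1 : D.neg (D.simple j.val) ≠ D.simple i.val := fun e => by
    have := (pos_or_neg hD (hD.simple_lt _ j.isLt)).1 (e ▸ hR.pos_simple hD i.isLt)
    exact this (hR.pos_simple hD j.isLt)
  have h2 : D.neg (D.simple j.val) ≠ D.neg (D.simple i.val) := fun e =>
    hij (Fin.ext (hR.simple_inj hD i.isLt j.isLt (by
      rw [← hD.neg_neg _ (hD.simple_lt _ i.isLt), ← e, hD.neg_neg _ (hD.simple_lt _ j.isLt)])))
  apply Units.ext
  rw [Units.val_mul, Units.val_mul, coe_xg, coe_xg, hD.commutator hi hj h1 h2]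
  suffices h : D.commWord F (D.simple i.val) (D.neg (D.simple j.val)) t u = [] by
    simp [h, ChevalleyDatum.wordMat]
  rw [ChevalleyDatum.commWord, List.map_eq_nil_iff, List.eq_nil_iff_forall_not_mem]
  intro τ hτ
  obtain ⟨hlt, hi', hj', hvi⟩ := (isLin_co hD M i.val).commTerms hD hi hj h1 h2 hτ
  obtain ⟨-, -, -, hvj⟩ := (isLin_co hD M j.val).commTerms hD hi hj h1 h2 hτ
  have hne : i.val ≠ j.val := fun e => hij (Fin.ext e)
  rw [hR.dual _ i.isLt _ i.isLt, if_pos rfl, hR.co_neg hD (hD.simple_lt _ j.isLt),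
    hR.dual _ i.isLt _ j.isLt, if_neg hne, neg_zero, mul_zero, add_zero] at hvi
  rw [hR.dual _ j.isLt _ i.isLt, if_neg hne.symm, hR.co_neg hD (hD.simple_lt _ j.isLt),
    hR.dual _ j.isLt _ j.isLt, if_pos rfl, mul_zero, zero_add] at hvj
  have hd := hR.d_pos
  by_cases hp : D.IsPosRoot τ.1
  · have := (hR.sgn _ hlt).1 hp j.val j.isLt
    rw [hvj] at this
    have : (1 : ℤ) ≤ τ.2.2.2 := by exact_mod_cast hj'
    nlinarith
  · have := hR.nonpos_of_not_pos hD hlt hp i.isLt
    rw [hvi] at this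
    have : (1 : ℤ) ≤ τ.2.2.1 := by exact_mod_cast hi'
    nlinarith

omit hG in
/-- `X_{αᵢ}` and `X_{-αᵢ}` do not commute. -/
theorem not_commute_simple (i : Fin D.rank) :
    ¬ ∀ t u : F, xg hD F (D.neg (D.simple i)) u * xg hD F (D.simple i) t =
      xg hD F (D.simple i) t * xg hD F (D.neg (D.simple i)) u := by
  intro h
  have hr := hD.simple_lt _ i.isLt
  have hc : ∀ a t : F, xg hD F (D.simple i.val) a * xg hD F (D.simple i.val) t =
      xg hD F (D.simple i.val) t * xg hD F (D.simple i.val) a := fun a t => by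
    rw [xg_add hD hr, xg_add hD hr, add_comm]
  have hcom : Commute (ng hD F (D.simple i.val) 1) (xg hD F (D.simple i.val) 1) :=
    (Commute.mul_left (Commute.mul_left (hc 1 1) (h 1 _)) (hc 1 1))
  have h1 := ng_conj_pos hD hr (one_ne_zero : (1 : F) ≠ 0) 1
  rw [hcom.eq, mul_inv_cancel_right] at h1
  have hne := hD.neg_ne _ hr
  exact hne (ChevOrder.xg_eq_xg hD hr (hD.neg_lt _ hr) one_ne_zero h1).symm

variable [Fintype F] (p : ℕ) [Fact p.Prime] [CharP F p]
include p

/-- After an inner automorphism, `θ` is given on `X_{±αᵢ}` by scalars and field automorphisms, through a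
symmetry of the diagram. -/
theorem exists_symmetry (θ : D.group F ≃* D.group F) :
    ∃ (x : D.group F) (π : Equiv.Perm (Fin D.rank)) (σ : Fin D.rank → F ≃+* F) (c : Fin D.rank → Fˣ),
      D.IsDiagramSymmetry π ∧ ∀ (i : Fin D.rank) (t : F),
        (θ.trans (MulAut.conj x)) (gx hD (D.simple i) t) = gx hD (D.simple (π i)) (c i * σ i t) ∧
        (θ.trans (MulAut.conj x)) (gx hD (D.neg (D.simple i)) t) =
          gx hD (D.neg (D.simple (π i))) (((c i)⁻¹ : Fˣ) * σ i t) := by
  classical
  obtain ⟨x, π, π', hH, hp, hm⟩ := exists_normalised hD hR p θ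
  refine ⟨x, ?_⟩
  set φ := θ.trans (MulAut.conj x)
  -- `π' = π`
  have hππ : ∀ i, π' i = π i := by
    intro i
    by_contra hne
    refine not_commute_simple hD hR (F := F) i fun t u => ?_
    obtain ⟨t', ht'⟩ := (mem_rootSubgroup hD _).1 ((hp i (gx hD (D.simple i) t)).1 (xg_mem_rootSubgroup hD _ _))
    obtain ⟨u', hu'⟩ :=
      (mem_rootSubgroup hD _).1 ((hm i (gx hD (D.neg (D.simple i)) u)).1 (xg_mem_rootSubgroup hD _ _))
    have h : φ (gx hD (D.neg (D.simple i)) u * gx hD (D.simple i) t) =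
        φ (gx hD (D.simple i) t * gx hD (D.neg (D.simple i)) u) := by
      rw [map_mul, map_mul]
      apply Subtype.ext
      rw [Subgroup.coe_mul, Subgroup.coe_mul, ht', hu']
      exact commute_simple hD hR (Ne.symm hne) t' u'
    exact congrArg Subtype.val (φ.injective h)
  have hex : ∀ i : Fin D.rank, ∃ (σ : F ≃+* F) (c : Fˣ), ∀ t,
      φ (gx hD (D.simple i) t) = gx hD (D.simple (π i)) (c * σ t) ∧
      φ (gx hD (D.neg (D.simple i)) t) = gx hD (D.neg (D.simple (π i))) ((c⁻¹ : Fˣ) * σ t) := fun i =>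
    exists_field_of_maps hD hR (hp i) (hππ i ▸ hm i)
  choose σ c hσ using hex
  have hinj : Function.Injective π := by
    intro i j e
    have h1 := (hσ i 1).1
    have h2 := (hσ j ((σ j).symm (((c j)⁻¹ : Fˣ) * c i))).1
    rw [RingEquiv.apply_symm_apply, ← mul_assoc, Units.mul_inv, one_mul, ← e] at h2
    rw [map_one, mul_one, ← h2] at h1
    have h3 := congrArg Subtype.val (φ.injective h1)
    exact Fin.ext (hR.simple_inj hD i.isLt j.isLt
      (ChevOrder.xg_eq_xg hD (hD.simple_lt _ i.isLt) (hD.simple_lt _ j.isLt) one_ne_zero h3))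
  let πe : Equiv.Perm (Fin D.rank) := Equiv.ofBijective π (Finite.injective_iff_bijective.1 hinj)
  refine ⟨πe, σ, c, ?_, fun i t => hσ i t⟩
  set R := chevRGD hD hR F with hRdef
  have hn : ∀ i : Fin D.rank, R.n i ∈ D.group F := fun i => chev_G hD hR (F := F) ▸ R.N_le_G (R.n_mem_N i)
  have hnw : ∀ l, R.nw l ∈ D.group F := fun l => chev_G hD hR (F := F) ▸ R.N_le_G (R.nw_mem_N l)
  have hn1 : ∀ i, ∃ h ∈ R.H, ((φ ⟨R.n i, hn i⟩ : D.group F) : GL D.Idx F) = h * R.n (π i) := by
    intro i
    have e : (⟨R.n i, hn i⟩ : D.group F) =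
        gx hD (D.simple i) 1 * gx hD (D.neg (D.simple i)) (-1⁻¹) * gx hD (D.simple i) 1 :=
      Subtype.ext rfl
    rw [e, map_mul, map_mul, (hσ i 1).1, (hσ i (-1⁻¹)).2]
    refine ⟨hg hD F (D.simple (π i).val) (c i), Subgroup.subset_closure
      ⟨_, _, hD.simple_lt _ (π i).isLt, (c i).ne_zero, coe_hg hD _ _⟩, ?_⟩
    show _ = hg hD F _ (c i : F) * ng hD F (D.simple (π i).val) 1
    rw [← RankOne.ng_eq_hg_mul hD, ng]
    simp [gx]
  have hw : ∀ l : List (Fin D.rank), ∃ h ∈ R.H,
      ((φ ⟨R.nw l, hnw l⟩ : D.group F) : GL D.Idx F) = h * R.nw (l.map π) := by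
    intro l
    induction l with
    | nil =>
      refine ⟨1, one_mem _, ?_⟩
      rw [show (⟨R.nw [], hnw []⟩ : D.group F) = 1 from Subtype.ext rfl, map_one]
      simp
    | cons i l ih =>
      obtain ⟨h, hh, e⟩ := ih
      obtain ⟨k, hk, e'⟩ := hn1 i
      refine ⟨k * (R.n (π i) * h * (R.n (π i))⁻¹), mul_mem hk (R.n_conj_H _ _ hh), ?_⟩
      rw [show (⟨R.nw (i :: l), hnw (i :: l)⟩ : D.group F) = ⟨R.n i, hn i⟩ * ⟨R.nw l, hnw l⟩ from
        Subtype.ext (R.nw_cons i l), map_mul, Subgroup.coe_mul, e, e', List.map_cons, R.nw_cons]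
      group
  intro i j hij
  have hπij : π i ≠ π j := fun e => hij (hinj e)
  refine crit_inj _ (cartan_pair hG hπij).2 _ (cartan_pair hG hij).2 fun m hm' => ?_
  rw [Bool.eq_iff_iff]
  have h1 := crit_iff hD hR hG (F := F) hij hm'
  have h2 := crit_iff hD hR hG (F := F) hπij hm'
  obtain ⟨h, hh, e⟩ := hw (pairWord i j m)
  rw [map_pairWord] at e
  rw [← h1, ← h2, ← hRdef]
  have h3 : R.nw (pairWord i j m) ∈ D.diagonalSubgroup F ↔
      ((φ ⟨R.nw (pairWord i j m), hnw _⟩ : D.group F) : GL D.Idx F) ∈ D.diagonalSubgroup F :=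
    hH ⟨R.nw (pairWord i j m), hnw _⟩
  rw [h3, e, Subgroup.mul_mem_cancel_left _ (show h ∈ D.diagonalSubgroup F from hh)]

end Cfsg.Agent.ChevAut
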